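/-
The automorphism group of a group of large Fischer type is generated by a class of
3-transpositions: the objects and the statements of the separate steps.
-/
import Cfsg.Prelude.Def_FischerSpaces
import Cfsg.Prelude.Def_MonsterType
import Cfsg.Agent.H99.TTTransitive
import Cfsg.Agent.H72.Conn.Loc

set_option autoImplicit false

namespace H71.Big24

open Cfsg H99

universe u

variable {X : Type u} [Group X]

/-- The centraliser of `d` is the product of `⟨d⟩` and a group `Y` of type M(23), and the members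
commuting with `d` are the products of `d` with the transpositions of `Y`. -/
structure Chart (D : Set X) (d : X) : Prop where
  model : ∃ (Y : Subgroup X) (T : Set ↥Y), d ∉ Y ∧ (∀ y : ↥Y, Commute d (y : X)) ∧
    (∀ g : X, Commute d g → g ∈ Y ∨ d * g ∈ Y) ∧
    IsThreeTranspositionClass T ∧ IsPrimitiveUnderConj T ∧ IsOfTypeM23 ↥Y T ∧
    perp D d = (fun t : ↥Y => d * (t : X)) '' T

/-- A class of involutions with a chart at each member, in which the product of a commuting pair
determines the pair. -/
structure Base (D : Set X) : Prop where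
  ord : ∀ x ∈ D, orderOf x = 2
  conj : ∀ g : X, ∀ x ∈ D, g * x * g⁻¹ ∈ D
  cls : ∀ x ∈ D, ∀ y ∈ D, IsConj x y
  chart : ∀ x ∈ D, Chart D x
  pairUniq : ∀ a ∈ D, ∀ b ∈ perp D a, ∀ x ∈ D, ∀ y ∈ perp D x, a * b = x * y → a = x ∨ a = y

/-- The position of the class to the subgroup of index two and to the central involution. -/
structure Rel (D : Set X) (G₀ : Subgroup X) (z : X) : Prop where
  outer : ∀ x ∈ D, x ∉ G₀
  inner : z ∈ G₀
  ord : orderOf z = 2
  fixed : ∃ d ∈ D, Commute d z
  notPair : ∀ x ∈ D, ∀ y ∈ perp D x, ¬ IsConj z (x * y)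
  cardCent : Nat.card ↥(Subgroup.centralizer ({z} : Set X)) ≤ 2 * 160526499840

/-- The members commuting with the central involution. -/
def fix (D : Set X) (z : X) : Set X := {x | x ∈ D ∧ Commute x z}

/-- What is known about the members commuting with the central involution. -/
structure Fixed (D : Set X) (z : X) : Prop where
  tetrad : ∀ d ∈ fix D z, ∃ a b c, H72.Conn.Cl3 (perp D d) a b c ∧ z = d * (a * b * c)
  trans : ∀ x ∈ fix D z, ∀ y ∈ fix D z, ∃ g, Commute g z ∧ g * x * g⁻¹ = y
  nonempty : (fix D z).Nonempty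
  card : (fix D z).ncard ≤ 504

/-- Two non-commuting members with a common partner have more than 1620 of them. -/
def BigMu (D : Set X) : Prop :=
  ∀ x ∈ D, ∀ y ∈ D, ¬ Commute x y → (perp D x ∩ perp D y).Nonempty →
    1620 < (perp D x ∩ perp D y).ncard

/-- A component `C` of the class, generating the subgroup `M` of type M(24). -/
structure Comp (D : Set X) (M : Subgroup X) (C : Set X) : Prop where
  sub : C ⊆ D
  le : C ⊆ (M : Set X)
  perp : ∀ x ∈ C, H99.perp D x ⊆ C
  move : ∀ g : X, ∀ x ∈ C, g * x * g⁻¹ ∈ C → g ∈ M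
  cls : IsThreeTranspositionClass ((↑) ⁻¹' C : Set ↥M)
  prim : IsPrimitiveUnderConj ((↑) ⁻¹' C : Set ↥M)
  typ : IsOfTypeM24 ↥M ((↑) ⁻¹' C : Set ↥M)

/-! ### Statements of the steps -/

/-- The class with its charts. -/
def ChartStmt : Prop :=
  ∀ {X : Type u} [Group X] [Finite X] (G₀ : Subgroup X), G₀.index = 2 →
    ∀ {z : ↥G₀} {Q : Subgroup (Subgroup.centralizer ({z} : Set ↥G₀))} [Q.Normal],
    IsOfLargeFischerTypeAt z Q →
    (∃ P : Sylow 2 ↥G₀, z ∈ (P : Subgroup ↥G₀) ∧ ∀ x ∈ (P : Subgroup ↥G₀), Commute x z) →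
    (generalizedFittingSubgroup ↥(Subgroup.centralizer ({(z : X)} : Set X))).map
      (Subgroup.subtype _) = (Q.map (Subgroup.subtype _)).map G₀.subtype →
    ∃ D : Set X, Base D ∧ Rel D G₀ (z : X)

/-- The central involution is a product of four commuting members, its centraliser is transitive
on the members it fixes, of which there are at most 504. -/
def FixedStmt : Prop :=
  ∀ {X : Type u} [Group X] [Finite X] {D : Set X} {G₀ : Subgroup X} {z : X},
    G₀.index = 2 → Base D → Rel D G₀ z → Fixed D z

/-- Some fixed pair at distance two has at least 72 fixed common partners. -/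
def CountStmt : Prop :=
  ∀ {X : Type u} [Group X] [Finite X] {D : Set X} {z : X}, Base D → Fixed D z →
    ∃ d ∈ fix D z, ∃ b ∈ fix D z, ¬ Commute d b ∧
      72 ≤ (perp D d ∩ perp D b ∩ fix D z).ncard

/-- All pairs at distance two have the same number of common partners. -/
def PairStmt : Prop :=
  ∀ {X : Type u} [Group X] [Finite X] {D : Set X}, Base D →
    ∀ d ∈ D, ∀ b ∈ D, ∀ x ∈ D, ∀ y ∈ D, ¬ Commute d b → (perp D d ∩ perp D b).Nonempty →
      ¬ Commute x y → (perp D x ∩ perp D y).Nonempty →
      (perp D x ∩ perp D y).ncard = (perp D d ∩ perp D b).ncard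

/-- With at most 1620 common partners, fewer than 72 of them are fixed. -/
def BoundStmt : Prop :=
  ∀ {X : Type u} [Group X] [Finite X] {D : Set X} {z : X}, Base D → Fixed D z →
    ∀ d ∈ fix D z, ∀ b ∈ fix D z, ¬ Commute d b → (perp D d ∩ perp D b).ncard ≤ 1620 →
      (perp D d ∩ perp D b ∩ fix D z).ncard < 72

/-- The component of a member. -/
def CompStmt : Prop :=
  ∀ {X : Type u} [Group X] [Finite X] {D : Set X}, Base D → BigMu D →
    ∀ d ∈ D, ∃ (M : Subgroup X) (C : Set X), d ∈ C ∧ Comp D M C

theorem bigMu_of (hC : CountStmt.{u}) (hP : PairStmt.{u}) (hB : BoundStmt.{u}) {X : Type u} [Group X]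
    [Finite X] {D : Set X} {z : X} (h : Base D) (hz : Fixed D z) : BigMu D := by
  obtain ⟨d, hd, b, hb, hdb, hge⟩ := hC h hz
  have hne : (perp D d ∩ perp D b).Nonempty := by
    obtain ⟨x, hx⟩ := Set.nonempty_of_ncard_ne_zero (s := perp D d ∩ perp D b ∩ fix D z) (by omega)
    exact ⟨x, hx.1⟩
  intro x hx y hy hxy hn
  rw [hP h d hd.1 b hb.1 x hx y hy hdb hne hxy hn]
  by_contra hle
  have := hB h hz d hd b hb hdb (Nat.not_lt.1 hle)
  omega

end H71.Big24
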