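/-
Elementary consequences of a chart.
-/
import Cfsg.Agent.H71.Big24.Defs
import Cfsg.Agent.H65.Fischer.Orders
import Cfsg.Agent.H99.Fischer.Wiring

set_option autoImplicit false
set_option linter.unusedSectionVars false

namespace H71.Big24

open Cfsg H99 H65.Fischer

universe u

variable {X : Type u} [Group X]

/-- The data of a chart. -/
structure Model (D : Set X) (d : X) (Y : Subgroup X) (T : Set ↥Y) : Prop where
  notMem : d ∉ Y
  comm : ∀ y : ↥Y, Commute d (y : X)
  cover : ∀ g : X, Commute d g → g ∈ Y ∨ d * g ∈ Y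
  cls : IsThreeTranspositionClass T
  prim : IsPrimitiveUnderConj T
  typ : IsOfTypeM23 ↥Y T
  perp : H99.perp D d = (fun t : ↥Y => d * (t : X)) '' T

theorem Chart.get {D : Set X} {d : X} (h : Chart D d) : ∃ Y T, Model D d Y T := by
  obtain ⟨Y, T, h1, h2, h3, h4, h5, h6, h7⟩ := h.model
  exact ⟨Y, T, h1, h2, h3, h4, h5, h6, h7⟩

namespace Model

variable {D : Set X} {d : X} {Y : Subgroup X} {T : Set ↥Y} (h : Model D d Y T)
include h

theorem group : IsThreeTranspositionGroup T := class_toGroup h.cls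

theorem mem {t : ↥Y} (ht : t ∈ T) : d * (t : X) ∈ H99.perp D d := h.perp ▸ ⟨t, ht, rfl⟩

theorem exists_eq {x : X} (hx : x ∈ H99.perp D d) : ∃ t ∈ T, d * (t : X) = x := by
  rw [h.perp] at hx; exact hx

theorem mul_mem_comm {s t : ↥Y} (hc : Commute s t) : Commute (d * (s : X)) (d * (t : X)) :=
  ((Commute.refl d).mul_right (h.comm t)).mul_left
    ((h.comm s).symm.mul_right (hc.map Y.subtype))

theorem good [Finite X] : Good T 31671 3510 693 351 := m23_good h.group h.prim h.typ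

theorem classes [Finite X] : H99.Fi.Classes T 3 := H99.Fi.classes_m23 h.group h.prim h.typ

theorem card [Finite X] :
    Nat.card ↥Y = 2 ^ 18 * 3 ^ 13 * 5 ^ 2 * 7 * 11 * 13 * 17 * 23 :=
  card_m23 h.group h.prim h.typ

/-- The subgroup lies in a subgroup of index two avoiding the class. -/
theorem le_of_outer {G₀ : Subgroup X} (hidx : G₀.index = 2) (hout : ∀ x ∈ D, x ∉ G₀)
    (hd : d ∈ D) : Y ≤ G₀ := by
  have hT : T ⊆ ((G₀.subgroupOf Y : Subgroup ↥Y) : Set ↥Y) := fun t ht => by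
    have h1 : d * (t : X) ∉ G₀ := hout _ (h.mem ht).1
    rw [Subgroup.mul_mem_iff_of_index_two hidx] at h1
    show (t : X) ∈ G₀
    have h2 := hout d hd
    tauto
  intro y hy
  have h1 : (⟨y, hy⟩ : ↥Y) ∈ G₀.subgroupOf Y :=
    (Subgroup.closure_le _).2 hT (by rw [h.cls.2.2]; exact Subgroup.mem_top _)
  exact h1

/-- The centraliser of a product of three commuting transpositions is large. -/
theorem card_triple [Finite X] {a b c : ↥Y} (h3 : H72.Conn.Cl3 T a b c) :
    318504960 ≤ Nat.card ↥(Subgroup.centralizer ({a * b * c} : Set ↥Y)) := by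
  classical
  haveI : Fintype ↥Y := Fintype.ofFinite _
  set z := a * b * c with hz
  set C := Subgroup.centralizer ({z} : Set ↥Y) with hC
  have hs := h.good.srg
  -- the ordered triples
  let V : Finset ↥Y := T.toFinite.toFinset
  have hV : ∀ v, v ∈ V ↔ v ∈ T := fun v => Set.Finite.mem_toFinset _
  let P : ↥Y → Finset ↥Y := fun x => (H99.perp T x).toFinite.toFinset
  have hP : ∀ x v, v ∈ P x ↔ v ∈ H99.perp T x := fun x v => Set.Finite.mem_toFinset _
  let S : Finset (Σ _ : ↥Y, Σ _ : ↥Y, ↥Y) := V.sigma fun x => (P x).sigma fun y => P x ∩ P y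
  have hS : S.card = 31671 * (3510 * 693) := by
    have h2 : ∀ x ∈ V, ((P x).sigma fun y => P x ∩ P y).card = 3510 * 693 := by
      intro x hx
      have h1 : ∀ y ∈ P x, (P x ∩ P y).card = 693 := by
        intro y hy
        have hy' := (hP x y).1 hy
        rw [← hs.adj x ((hV x).1 hx) y hy'.1 hy'.2.1.symm hy'.2.2, ← Set.ncard_coe_finset]
        congr 1
        simp [P]
      rw [Finset.card_sigma, Finset.sum_congr rfl h1, Finset.sum_const, smul_eq_mul,
        ← Set.ncard_eq_toFinset_card, hs.deg x ((hV x).1 hx)]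
    rw [Finset.card_sigma, Finset.sum_congr rfl h2, Finset.sum_const, smul_eq_mul,
      ← Set.ncard_eq_toFinset_card, hs.card]
  let f : (Σ _ : ↥Y, Σ _ : ↥Y, ↥Y) → ↥Y := fun q => q.1 * q.2.1 * q.2.2
  have hmemS : ∀ x y w, H72.Conn.Cl3 T x y w → (⟨x, y, w⟩ : Σ _ : ↥Y, Σ _ : ↥Y, ↥Y) ∈ S := by
    intro x y w k
    simp only [S, Finset.mem_sigma, Finset.mem_inter, hV, hP]
    exact ⟨k.hx, ⟨k.hy, k.xy.symm, k.cxy⟩, ⟨k.hw, k.xw.symm, k.cxw⟩, k.hw, k.yw.symm, k.cyw⟩
  -- the class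
  let K : Finset ↥Y := Finset.univ.image fun g => g * z * g⁻¹
  have hsix : ∀ u ∈ K, 6 ≤ (S.filter fun q => f q = u).card := by
    intro u hu
    obtain ⟨g, -, rfl⟩ := Finset.mem_image.1 hu
    let φ := fun x : ↥Y => g * x * g⁻¹
    have hinj : Function.Injective φ := fun x y e => mul_left_cancel (mul_right_cancel e)
    have hm : ∀ x y w, H72.Conn.Cl3 T x y w → H72.Conn.Cl3 T (φ x) (φ y) (φ w) := fun x y w k =>
      ⟨class_conj_mem h.cls g k.hx, class_conj_mem h.cls g k.hy, class_conj_mem h.cls g k.hw,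
        hinj.ne k.xy, hinj.ne k.xw, hinj.ne k.yw, k.cxy.map (MulAut.conj g).toMonoidHom,
        k.cxw.map (MulAut.conj g).toMonoidHom, k.cyw.map (MulAut.conj g).toMonoidHom⟩
    have k := hm a b c h3
    set A := φ a
    set B := φ b
    set W := φ c
    have e : A * B * W = g * z * g⁻¹ := by simp only [A, B, W, φ, hz]; group
    have e1 : A * W * B = A * B * W := by rw [mul_assoc, ← k.cyw.eq, ← mul_assoc]
    have e2 : B * A * W = A * B * W := by rw [← k.cxy.eq]
    have e3 : B * W * A = A * B * W := by rw [mul_assoc, ← k.cxw.eq, ← mul_assoc, e2]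
    have e4 : W * A * B = A * B * W := by rw [← k.cxw.eq, e1]
    have e5 : W * B * A = A * B * W := by rw [← k.cyw.eq, e3]
    have k1 : H72.Conn.Cl3 T A W B :=
      ⟨k.hx, k.hw, k.hy, k.xw, k.xy, k.yw.symm, k.cxw, k.cxy, k.cyw.symm⟩
    have k2 : H72.Conn.Cl3 T B A W :=
      ⟨k.hy, k.hx, k.hw, k.xy.symm, k.yw, k.xw, k.cxy.symm, k.cyw, k.cxw⟩
    have k3 : H72.Conn.Cl3 T B W A :=
      ⟨k.hy, k.hw, k.hx, k.yw, k.xy.symm, k.xw.symm, k.cyw, k.cxy.symm, k.cxw.symm⟩
    have k4 : H72.Conn.Cl3 T W A B :=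
      ⟨k.hw, k.hx, k.hy, k.xw.symm, k.yw.symm, k.xy, k.cxw.symm, k.cyw.symm, k.cxy⟩
    have k5 : H72.Conn.Cl3 T W B A :=
      ⟨k.hw, k.hy, k.hx, k.yw.symm, k.xw.symm, k.xy.symm, k.cyw.symm, k.cxw.symm, k.cxy.symm⟩
    have hsub : ({⟨A, B, W⟩, ⟨A, W, B⟩, ⟨B, A, W⟩, ⟨B, W, A⟩, ⟨W, A, B⟩, ⟨W, B, A⟩} :
        Finset (Σ _ : ↥Y, Σ _ : ↥Y, ↥Y)) ⊆ S.filter fun q => f q = g * z * g⁻¹ := by
      intro q hq
      simp only [Finset.mem_insert, Finset.mem_singleton] at hq
      rw [Finset.mem_filter, ← e]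
      rcases hq with rfl | rfl | rfl | rfl | rfl | rfl
      exacts [⟨hmemS _ _ _ k, rfl⟩, ⟨hmemS _ _ _ k1, e1⟩, ⟨hmemS _ _ _ k2, e2⟩,
        ⟨hmemS _ _ _ k3, e3⟩, ⟨hmemS _ _ _ k4, e4⟩, ⟨hmemS _ _ _ k5, e5⟩]
    refine le_trans (le_of_eq ?_) (Finset.card_le_card hsub)
    simp [Finset.card_insert_of_notMem, k.xy, k.xw, k.yw, k.xy.symm, k.xw.symm, k.yw.symm]
  have hK : 6 * K.card ≤ S.card := by
    refine le_trans ?_ (Finset.card_le_card (Finset.filter_subset (fun q => f q ∈ K) S))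
    have := Finset.mul_card_image_le_card_of_maps_to (f := f) (s := S.filter fun q => f q ∈ K)
      (t := K) (fun q hq => (Finset.mem_filter.1 hq).2) 6 (fun u hu => by
        rw [Finset.filter_filter]
        refine le_trans (hsix u hu) (le_of_eq ?_)
        congr 1
        exact Finset.filter_congr fun q _ => ⟨fun e => ⟨e ▸ hu, e⟩, fun e => e.2⟩)
    exact this
  -- orbit and stabiliser
  have hY : Fintype.card ↥Y ≤ Nat.card C * K.card := by
    rw [← Finset.card_univ]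
    refine Finset.card_le_mul_card_image _ _ fun u hu => ?_
    obtain ⟨g, -, rfl⟩ := Finset.mem_image.1 hu
    rw [Nat.card_eq_fintype_card, Fintype.card_subtype]
    refine le_of_eq_of_le rfl (Finset.card_le_card_of_injOn (fun q => g⁻¹ * q) (fun q hq => ?_)
      fun p _ q _ e => mul_left_cancel e)
    rw [Finset.mem_coe, Finset.mem_filter] at hq ⊢
    refine ⟨Finset.mem_univ _, Subgroup.mem_centralizer_singleton_iff.2 ?_⟩
    calc g⁻¹ * q * z = g⁻¹ * (q * z * q⁻¹) * q := by group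
      _ = z * (g⁻¹ * q) := by rw [hq.2]; group
  rw [← Nat.card_eq_fintype_card, h.card] at hY
  rw [hS] at hK
  nlinarith

end Model

end H71.Big24
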