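/-
The points of an eight-dimensional orthogonal space over the field with three elements fixed by the
product of four orthogonal reflections.
-/
import Cfsg.Agent.H20.FischerO3.Base

set_option autoImplicit false
set_option linter.unusedSectionVars false

namespace H71.Big24

open H43 H20.FischerO3

variable {V : Type*} [AddCommGroup V] [Module (ZMod 3) V] [Finite V]
  {G : Type*} [Group G] [Finite G] {Q : QuadraticForm (ZMod 3) V} {c : ZMod 3} {E : Set G} {φ : G → V}

theorem weight_one_card :
    (Finset.univ.filter fun a : Fin 4 → ZMod 3 => ∑ i, a i * a i = 1).card = 24 := by decide +kernel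

theorem zmod3_inv_mul_two : ∀ c : ZMod 3, c ≠ 0 → c⁻¹ * (2 * c) = 2 := by decide +kernel

theorem zmod3_cancel : ∀ a b : ZMod 3, a ≠ 0 → a * b = a → b = 1 := by decide +kernel

/-- Conjugation by a member is a reflection. -/
theorem chart_conj_refl (h : Chart Q c E φ) (hsq : ∀ x ∈ E, x * x = 1) {x y : G} (hx : x ∈ E)
    (hy : y ∈ E) : x * y * x⁻¹ ∈ E ∧ PM ((H43.refl Q (φ x)).1 (φ y)) (φ (x * y * x⁻¹)) := by
  rw [inv_eq_of_mul_eq_one_right (hsq x hx)]
  exact h.conj x hx y hy

/-- Conjugation by a product of four members acts as the product of the reflections. -/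
theorem chart_conj_four (h : Chart Q c E φ) (hsq : ∀ x ∈ E, x * x = 1) {x a b w y : G}
    (hx : x ∈ E) (ha : a ∈ E) (hb : b ∈ E) (hw : w ∈ E) (hy : y ∈ E) :
    PM ((H43.refl Q (φ x)).1 ((H43.refl Q (φ a)).1 ((H43.refl Q (φ b)).1
        ((H43.refl Q (φ w)).1 (φ y)))))
      (φ ((x * a * b * w) * y * (x * a * b * w)⁻¹)) := by
  obtain ⟨h1, e1⟩ := chart_conj_refl h hsq hw hy
  obtain ⟨h2, e2⟩ := chart_conj_refl h hsq hb h1
  obtain ⟨h3, e3⟩ := chart_conj_refl h hsq ha h2
  obtain ⟨h4, e4⟩ := chart_conj_refl h hsq hx h3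
  have e : x * (a * (b * (w * y * w⁻¹) * b⁻¹) * a⁻¹) * x⁻¹ =
      (x * a * b * w) * y * (x * a * b * w)⁻¹ := by group
  rw [← e]
  refine (PM.orth ?_ (H43.refl Q (φ x))).trans e4
  refine (PM.orth ?_ (H43.refl Q (φ a))).trans e3
  exact (PM.orth e1 (H43.refl Q (φ b))).trans e2

/-- The product of four reflections in orthogonal points. -/
theorem four_refl_apply {v : Fin 4 → V} (hv : ∀ i, Q (v i) = c)
    (ho : ∀ i j, i ≠ j → polB Q (v i) (v j) = 0) (u : V) :
    (H43.refl Q (v 0)).1 ((H43.refl Q (v 1)).1 ((H43.refl Q (v 2)).1 ((H43.refl Q (v 3)).1 u))) =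
      u - ∑ i, (c⁻¹ * polB Q u (v i)) • v i := by
  simp only [H43.refl_apply, hv, map_sub, map_smul, LinearMap.sub_apply, LinearMap.smul_apply,
    smul_eq_mul, ho 3 2 (by decide), ho 3 1 (by decide), ho 2 1 (by decide), ho 3 0 (by decide),
    ho 2 0 (by decide), ho 1 0 (by decide), mul_zero, zero_smul, smul_zero, sub_zero, Fin.sum_univ_four]
  abel

/-- The norm of a combination of orthogonal points. -/
theorem qmap_combination {v : Fin 4 → V} (hv : ∀ i, Q (v i) = c)
    (ho : ∀ i j, i ≠ j → polB Q (v i) (v j) = 0) (a : Fin 4 → ZMod 3) :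
    Q (∑ i, a i • v i) = c * ∑ i, a i * a i := by
  have hadd : ∀ p q : V, polB Q p q = 0 → Q (p + q) = Q p + Q q := fun p q hpq => by
    rw [H43.polB_apply, QuadraticMap.polar] at hpq
    linear_combination hpq
  rw [Fin.sum_univ_four, Fin.sum_univ_four, hadd _ _ (by
      simp [ho 0 3 (by decide), ho 1 3 (by decide), ho 2 3 (by decide)]),
    hadd _ _ (by simp [ho 0 2 (by decide), ho 1 2 (by decide)]),
    hadd _ _ (by simp [ho 0 1 (by decide)]), QuadraticMap.map_smul, QuadraticMap.map_smul,
    QuadraticMap.map_smul, QuadraticMap.map_smul, hv, hv, hv, hv]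
  simp only [smul_eq_mul]
  ring

/-- At most 52 members commute with the product of four pairwise commuting members. -/
theorem chart_fix_le (hdim : Module.finrank (ZMod 3) V = 8) (hc : c ≠ 0) (h : Chart Q c E φ)
    (hsq : ∀ x ∈ E, x * x = 1) {x a b w : G} (hx : x ∈ E) (ha : a ∈ E) (hb : b ∈ E) (hw : w ∈ E)
    (hne : [x, a, b, w].Nodup) (hxa : Commute x a) (hxb : Commute x b) (hxw : Commute x w)
    (hab : Commute a b) (haw : Commute a w) (hbw : Commute b w) :
    {y | y ∈ E ∧ Commute y (x * a * b * w)}.ncard ≤ 52 := by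
  classical
  haveI : Fintype V := Fintype.ofFinite V
  simp only [List.nodup_cons, List.mem_cons, List.not_mem_nil, or_false, not_or] at hne
  obtain ⟨⟨nxa, nxb, nxw⟩, ⟨nab, naw⟩, nbw, -⟩ := hne
  let e : Fin 4 → G := ![x, a, b, w]
  have he : ∀ i, e i ∈ E := fun i => by fin_cases i <;> simpa [e]
  let v : Fin 4 → V := fun i => φ (e i)
  have hv : ∀ i, Q (v i) = c := fun i => h.val _ (he i)
  have orth : ∀ {p q : G}, p ∈ E → q ∈ E → p ≠ q → Commute p q → polB Q (φ p) (φ q) = 0 :=
    fun hp hq hn hcm => (h.comm _ hp _ hq hn).1 hcm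
  have ho : ∀ i j, i ≠ j → polB Q (v i) (v j) = 0 := by
    intro i j hij
    fin_cases i <;> fin_cases j <;>
      first
      | exact absurd rfl hij
      | exact orth hx ha nxa hxa | exact orth ha hx (Ne.symm nxa) hxa.symm
      | exact orth hx hb nxb hxb | exact orth hb hx (Ne.symm nxb) hxb.symm
      | exact orth hx hw nxw hxw | exact orth hw hx (Ne.symm nxw) hxw.symm
      | exact orth ha hb nab hab | exact orth hb ha (Ne.symm nab) hab.symm
      | exact orth ha hw naw haw | exact orth hw ha (Ne.symm naw) haw.symm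
      | exact orth hb hw nbw hbw | exact orth hw hb (Ne.symm nbw) hbw.symm
  -- the two sets of fixed vectors
  let L : V →ₗ[ZMod 3] (Fin 4 → ZMod 3) := LinearMap.pi fun i => (polB Q).flip (v i)
  have hL : ∀ u i, L u i = polB Q u (v i) := fun u i => rfl
  have hsurj : Function.Surjective L := by
    intro t
    refine ⟨∑ i, ((2 * c)⁻¹ * t i) • v i, funext fun j => ?_⟩
    rw [hL, map_sum, LinearMap.sum_apply, Finset.sum_eq_single j
      (fun i _ hij => by simp [ho i j hij]) (fun hj => absurd (Finset.mem_univ j) hj)]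
    rw [map_smul, LinearMap.smul_apply, smul_eq_mul, polB_self, hv, mul_comm ((2 * c)⁻¹), mul_assoc,
      inv_mul_cancel₀ (mul_ne_zero (by decide : (2 : ZMod 3) ≠ 0) hc), mul_one]
  have hker : Nat.card (LinearMap.ker L) = 81 := by
    have h1 := L.finrank_range_add_finrank_ker
    rw [LinearMap.range_eq_top.2 hsurj, finrank_top, Module.finrank_fin_fun, hdim] at h1
    rw [Module.natCard_eq_pow_finrank (K := ZMod 3), Nat.card_zmod]
    rw [show Module.finrank (ZMod 3) (LinearMap.ker L) = 4 by omega]; rfl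
  let A : Finset V := (Finset.univ.filter fun u => u ∈ LinearMap.ker L).erase 0
  let B : Finset V := (Finset.univ.filter fun t : Fin 4 → ZMod 3 => ∑ i, t i * t i = 1).image
    fun t => ∑ i, t i • v i
  have hA : A.card = 80 := by
    rw [Finset.card_erase_of_mem (by simp), ← Fintype.card_subtype,
      ← Nat.card_eq_fintype_card, hker]
  have hB : B.card ≤ 24 := Finset.card_image_le.trans weight_one_card.le
  have key : ∀ y ∈ E, Commute y (x * a * b * w) → φ y ∈ A ∪ B ∧ -φ y ∈ A ∪ B := by
    intro y hy hcy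
    have hp : PM (φ y - ∑ i, (c⁻¹ * polB Q (φ y) (v i)) • v i) (φ y) := by
      rw [← four_refl_apply hv ho]
      have := chart_conj_four h hsq hx ha hb hw hy
      rwa [← hcy.eq, mul_inv_cancel_right] at this
    have hq : Q (φ y) = c := h.val y hy
    have hy0 : φ y ≠ 0 := fun h0 => hc (by rw [← hq, h0, map_zero])
    rcases hp with hp | hp
    · have hk : φ y ∈ LinearMap.ker L := by
        have hz : ∑ i, (c⁻¹ * polB Q (φ y) (v i)) • v i = 0 := sub_eq_self.1 hp.symm
        refine LinearMap.mem_ker.2 (funext fun j => ?_)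
        have h2 := congrArg (fun u => polB Q u (v j)) hz
        simp only [map_sum, LinearMap.sum_apply, map_zero, LinearMap.zero_apply] at h2
        rw [Finset.sum_eq_single j (fun i _ hij => by simp [ho i j hij])
          (fun hj => absurd (Finset.mem_univ j) hj), map_smul, LinearMap.smul_apply, smul_eq_mul,
          polB_self, hv] at h2
        rw [hL, Pi.zero_apply]
        have h3 : c⁻¹ * (2 * c) * polB Q (φ y) (v j) = 0 := by rw [← h2]; ring
        rw [zmod3_inv_mul_two c hc] at h3
        exact (mul_eq_zero.1 h3).resolve_left (by decide)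
      exact ⟨Finset.mem_union_left _ (by simp [A, hy0, LinearMap.mem_ker.1 hk]),
        Finset.mem_union_left _ (by simp [A, hy0, LinearMap.mem_ker.1 hk])⟩
    · let t : Fin 4 → ZMod 3 := fun i => -(c⁻¹ * polB Q (φ y) (v i))
      have e2 : φ y = ∑ i, t i • v i := by
        have h3 : (3 : ZMod 3) • φ y = 0 := by rw [show (3 : ZMod 3) = 0 from rfl, zero_smul]
        simp only [t, neg_smul, Finset.sum_neg_distrib]
        set S := ∑ i, (c⁻¹ * polB Q (φ y) (v i)) • v i
        rw [neg_sub] at hp
        linear_combination (norm := module) (1 : ZMod 3) • h3 + (-1 : ZMod 3) • hp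
      have ht : ∑ i, t i * t i = 1 := zmod3_cancel c _ hc (by rw [← qmap_combination hv ho, ← e2, hq])
      refine ⟨Finset.mem_union_right _ (Finset.mem_image.2 ⟨t, by simpa using ht, e2.symm⟩),
        Finset.mem_union_right _ (Finset.mem_image.2 ⟨-t, by simpa using ht, ?_⟩)⟩
      rw [e2]; simp [neg_smul, Finset.sum_neg_distrib]
  set Y := {y | y ∈ E ∧ Commute y (x * a * b * w)}
  have hY : ∀ y, y ∈ Y.toFinite.toFinset ↔ y ∈ Y := fun y => Set.Finite.mem_toFinset _
  have hdisj : ∀ y ∈ Y.toFinite.toFinset, ∀ y' ∈ Y.toFinite.toFinset, y ≠ y' →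
      Disjoint ({φ y, -φ y} : Finset V) {φ y', -φ y'} := by
    intro y hy y' hy' hne'
    rw [Finset.disjoint_left]
    intro u hu hu'
    simp only [Finset.mem_insert, Finset.mem_singleton] at hu hu'
    refine hne' (h.inj y ((hY y).1 hy).1 y' ((hY y').1 hy').1 ?_)
    have p1 : PM (φ y) u := by rcases hu with rfl | rfl <;> [exact PM.refl _; exact PM.neg_self _]
    have p2 : PM (φ y') u := by rcases hu' with rfl | rfl <;> [exact PM.refl _; exact PM.neg_self _]
    exact p1.trans p2.symm
  have hsub : Y.toFinite.toFinset.biUnion (fun y => ({φ y, -φ y} : Finset V)) ⊆ A ∪ B := by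
    intro u hu
    obtain ⟨y, hy, hu⟩ := Finset.mem_biUnion.1 hu
    obtain ⟨hyE, hyc⟩ := (hY y).1 hy
    simp only [Finset.mem_insert, Finset.mem_singleton] at hu
    rcases hu with rfl | rfl
    · exact (key y hyE hyc).1
    · exact (key y hyE hyc).2
  have hcard := (Finset.card_le_card hsub).trans (Finset.card_union_le A B)
  rw [Finset.card_biUnion hdisj, Finset.sum_congr rfl (g := fun _ => 2) fun y hy =>
    Finset.card_pair fun e' => hc (by
      have h3 : (3 : ZMod 3) • φ y = 0 := by rw [show (3 : ZMod 3) = 0 from rfl, zero_smul]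
      have h0 : φ y = 0 := by linear_combination (norm := module) (1 : ZMod 3) • h3 + (-1 : ZMod 3) • e'
      rw [← h.val y ((hY y).1 hy).1, h0, map_zero]),
    Finset.sum_const, smul_eq_mul, ← Set.ncard_eq_toFinset_card] at hcard
  omega

end H71.Big24
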