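/-
With at most 1620 common partners, fewer than 72 of them are fixed by the central involution: the
common partners form the norm-`c` points of an eight-dimensional space over the field with three
elements, on which the involution is a product of four orthogonal reflections.
-/
import Cfsg.Agent.H20.BigBound.Comp
import Cfsg.Agent.H20.FischerO3.Sign
import Cfsg.Agent.H20.FischerO3.Model
import Cfsg.Agent.H71.Big24.FixBound
import Cfsg.Agent.H86.Fischer.SevenChart

set_option autoImplicit false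
set_option linter.unusedSectionVars false

namespace H71.Big24

open Cfsg H99 H43 H20.BigBound
open H65.Fischer
open H20.FischerO3 (Ctx chart_up plusForm upMap)

universe u

local instance factPrimeThreeBound : Fact (Nat.Prime 3) := ⟨Nat.prime_three⟩

variable {X : Type u} [Group X] [Finite X] {D : Set X} (h : Base D) {d b : X} (hd : d ∈ D)
  (hb : b ∈ D) (hdb : ¬ Commute d b)
include h hd hb hdb

local notation "Mdb" => (perp D d ∩ perp D b)

/-- The partners of a common partner among the common partners as points of a seven-dimensional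
space. -/
theorem exists_chart_local {r : X} (hr : r ∈ Mdb) :
    ∃ (Q : QuadraticForm (ZMod 3) (Fin 7 → ZMod 3)) (c : ZMod 3) (φ : X → Fin 7 → ZMod 3),
      (polB Q).Nondegenerate ∧ c ≠ 0 ∧ H20.FischerO3.Chart Q c (perp Mdb r) φ := by
  classical
  obtain ⟨Y, T, p, q, m, hp, hq, hpq, he, hcc⟩ := exists_local h hd hb hdb hr
  obtain ⟨Q, c, φ, hQ, hc, hch⟩ := H86.Fischer.exists_sevenChart m.group m.prim m.typ hp hq hpq
  let φX : X → Fin 7 → ZMod 3 := fun x =>
    if hx : r⁻¹ * x ∈ Y then φ ⟨r⁻¹ * x, hx⟩ else 0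
  have hφ : ∀ t : ↥Y, φX (r * (t : X)) = φ t := fun t => by
    have ht : r⁻¹ * (r * (t : X)) ∈ Y := by rw [inv_mul_cancel_left]; exact t.2
    simp only [φX, dif_pos ht]
    exact congrArg φ (Subtype.ext (inv_mul_cancel_left r _))
  have hget : ∀ x ∈ perp Mdb r, ∃ t ∈ perp T p ∩ perp T q, r * (t : X) = x := fun x hx => by
    rw [he] at hx; exact hx
  have hmem : ∀ t ∈ perp T p ∩ perp T q, r * (t : X) ∈ perp Mdb r := fun t ht => by
    rw [he]; exact ⟨t, ht, rfl⟩
  refine ⟨Q, c, φX, hQ, hc, fun x hx => ?_, fun x hx y hy hxy => ?_, fun v hv => ?_,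
    fun x hx y hy hne => ?_, fun x hx y hy => ?_⟩
  · obtain ⟨t, ht, rfl⟩ := hget x hx
    rw [hφ]; exact hch.val t ht
  · obtain ⟨s, hs, rfl⟩ := hget x hx
    obtain ⟨t, ht, rfl⟩ := hget y hy
    rw [hφ, hφ] at hxy
    rw [hch.inj s hs t ht hxy]
  · obtain ⟨t, ht, hv'⟩ := hch.surj v hv
    exact ⟨_, hmem t ht, by rwa [hφ]⟩
  · obtain ⟨s, hs, rfl⟩ := hget x hx
    obtain ⟨t, ht, rfl⟩ := hget y hy
    rw [hφ, hφ, hcc]
    exact hch.comm s hs t ht fun e => hne (by rw [e])
  · obtain ⟨s, hs, rfl⟩ := hget x hx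
    obtain ⟨t, ht, rfl⟩ := hget y hy
    have e : r * (s : X) * (r * (t : X)) * (r * (s : X)) = r * ((s * t * s : ↥Y) : X) := by
      have hr2 : r * r = 1 := by
        have := pow_orderOf_eq_one r
        rwa [h.ord r hr.1.1, pow_two] at this
      simp only [Subgroup.coe_mul]
      calc r * (s : X) * (r * (t : X)) * (r * (s : X))
          = r * ((s : X) * r) * ((t : X) * r) * (s : X) := by group
        _ = r * (r * (s : X)) * (r * (t : X)) * (s : X) := by rw [(m.comm s).eq, (m.comm t).eq]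
        _ = (r * r) * ((s : X) * r) * (t : X) * (s : X) := by group
        _ = r * ((s : X) * (t : X) * (s : X)) := by
            rw [hr2, one_mul, ← (m.comm s).eq]; group
    rw [e, hφ, hφ, hφ]
    exact ⟨hmem _ (hch.conj s hs t ht).1, (hch.conj s hs t ht).2⟩

variable (hle : (perp D d ∩ perp D b).ncard ≤ 1620)
include hle

/-- The common partners as points of an eight-dimensional space. -/
theorem exists_chart_eight (hne : (perp D d ∩ perp D b).Nonempty) :
    ∃ (Q : QuadraticForm (ZMod 3) (Fin 8 → ZMod 3)) (c : ZMod 3) (φ : X → Fin 8 → ZMod 3),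
      c ≠ 0 ∧ H20.FischerO3.Chart Q c Mdb φ := by
  classical
  have hcls := cls_M h hd hb hdb hle hne
  have hprim := prim_M h hd hb hdb hle hne
  obtain ⟨r, hr⟩ := hne
  obtain ⟨Q, c, φ, hQ, hc, hch⟩ := exists_chart_local h hd hb hdb hr
  set L := Subgroup.closure (perp D d ∩ perp D b) with hL
  set ι : ↥L → X := Subtype.val
  let r' : ↥L := ⟨r, Subgroup.subset_closure hr⟩
  have hperp : ∀ x : ↥L, x ∈ perp (ι ⁻¹' Mdb) r' ↔ (x : X) ∈ perp Mdb r := fun x =>
    ⟨fun hx => ⟨hx.1, fun e => hx.2.1 (Subtype.ext e), hx.2.2.map L.subtype⟩,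
      fun hx => ⟨hx.1, fun e => hx.2.1 (congrArg Subtype.val e), Subtype.ext hx.2.2⟩⟩
  have hchL : H20.FischerO3.Chart Q c (perp (ι ⁻¹' Mdb) r') fun x => φ x := by
    refine ⟨fun x hx => hch.val _ ((hperp x).1 hx),
      fun x hx y hy e => Subtype.ext (hch.inj _ ((hperp x).1 hx) _ ((hperp y).1 hy) e),
      fun v hv => ?_, fun x hx y hy hne' => ?_, fun x hx y hy => ?_⟩
    · obtain ⟨x, hx, hv'⟩ := hch.surj v hv
      exact ⟨⟨x, Subgroup.subset_closure hx.1⟩, (hperp _).2 hx, hv'⟩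
    · refine Iff.trans ?_ (hch.comm _ ((hperp x).1 hx) _ ((hperp y).1 hy)
        fun e => hne' (Subtype.ext e))
      exact ⟨fun e => e.map L.subtype, fun e => Subtype.ext e⟩
    · obtain ⟨h1, h2⟩ := hch.conj _ ((hperp x).1 hx) _ ((hperp y).1 hy)
      exact ⟨(hperp _).2 h1, h2⟩
  obtain ⟨s, hs⟩ := Set.nonempty_of_ncard_ne_zero (s := perp Mdb r)
    (by rw [(srg_local h hd hb hdb hr).card]; norm_num)
  have C : Ctx Q c (ι ⁻¹' Mdb) r' fun x => φ x :=
    ⟨hcls, hprim, hr, ⟨r', hr, ⟨s, Subgroup.subset_closure hs.1⟩, hs.1,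
      fun e => hs.2.1 (congrArg Subtype.val e).symm, Subtype.ext hs.2.2⟩, hQ,
      by rw [Module.finrank_fin_fun]; norm_num, hc, hchL⟩
  obtain ⟨f, hf⟩ := C.exists_amap
  have hup := chart_up C hf
  let F : X → Fin 8 → ZMod 3 := fun x =>
    if hx : x ∈ L then upMap r' (fun x : ↥L => φ x) f ⟨x, hx⟩ else 0
  have hF : ∀ x : ↥L, F x = upMap r' (fun x : ↥L => φ x) f x := fun x => dif_pos x.2
  have hin : ∀ x ∈ Mdb, x ∈ L := fun x hx => Subgroup.subset_closure hx
  refine ⟨plusForm Q c, c, F, hc, fun x hx => ?_, fun x hx y hy e => ?_, fun v hv => ?_,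
    fun x hx y hy hne' => ?_, fun x hx y hy => ?_⟩
  · rw [show F x = _ from hF ⟨x, hin x hx⟩]; exact hup.val _ hx
  · rw [show F x = _ from hF ⟨x, hin x hx⟩, show F y = _ from hF ⟨y, hin y hy⟩] at e
    exact congrArg Subtype.val (hup.inj _ hx _ hy e)
  · obtain ⟨x, hx, hv'⟩ := hup.surj v hv
    exact ⟨x, hx, by rwa [hF x]⟩
  · rw [show F x = _ from hF ⟨x, hin x hx⟩, show F y = _ from hF ⟨y, hin y hy⟩]
    refine Iff.trans ?_ (hup.comm _ hx _ hy fun e => hne' (congrArg Subtype.val e))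
    exact ⟨fun e => Subtype.ext e, fun e => e.map L.subtype⟩
  · obtain ⟨h1, h2⟩ := hup.conj ⟨x, hin x hx⟩ hx ⟨y, hin y hy⟩ hy
    refine ⟨h1, ?_⟩
    rw [show F x = _ from hF ⟨x, hin x hx⟩, show F y = _ from hF ⟨y, hin y hy⟩,
      show F (x * y * x) = _ from
        hF (⟨x, hin x hx⟩ * ⟨y, hin y hy⟩ * ⟨x, hin x hx⟩)]
    exact h2

omit hle in
/-- With at most 1620 common partners, fewer than 72 of them are fixed. -/
theorem bound_of {z : X} (hz : Fixed D z) (hdz : Commute d z) (hbz : Commute b z)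
    (hle : (perp D d ∩ perp D b).ncard ≤ 1620) :
    (perp D d ∩ perp D b ∩ fix D z).ncard < 72 := by
  classical
  rcases Set.eq_empty_or_nonempty (perp D d ∩ perp D b ∩ fix D z) with he | ⟨x, hx, hxz⟩
  · rw [he, Set.ncard_empty]; norm_num
  obtain ⟨a, w, v, h3, hzv⟩ := hz.tetrad x hxz
  have hxd : d ∈ perp D x := perp_mem_symm hd hx.1
  have hxb : b ∈ perp D x := perp_mem_symm hb hx.2
  have hxx : x * x = 1 := by
    have := pow_orderOf_eq_one x
    rwa [h.ord x hx.1.1, pow_two] at this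
  have hcom : ∀ y, y ∈ perp D x → Commute y z → Commute y (a * w * v) := fun y hy hyz => by
    have := hy.2.2.symm.mul_right hyz
    rwa [hzv, ← mul_assoc, hxx, one_mul] at this
  have hS := tt_perp h hx.1.1
  obtain ⟨hda, hdw, hdv⟩ := commute_all_of_triple hS hxd h3 (hcom d hxd hdz)
  obtain ⟨hba, hbw, hbv⟩ := commute_all_of_triple hS hxb h3 (hcom b hxb hbz)
  have hM : ∀ u ∈ perp D x, Commute d u → Commute b u → u ∈ Mdb := fun u hu h1 h2 =>
    ⟨⟨hu.1, fun e => hdb (e ▸ h2).symm, h1⟩, hu.1, fun e => hdb (e ▸ h1), h2⟩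
  have haM := hM a h3.hx hda hba
  have hwM := hM w h3.hy hdw hbw
  have hvM := hM v h3.hw hdv hbv
  obtain ⟨Q, c, φ, hc, hch⟩ := exists_chart_eight h hd hb hdb hle ⟨x, hx⟩
  have hsq : ∀ u ∈ Mdb, u * u = 1 := fun u hu => tt_mul_self (tt_M h hd hb hdb) hu
  have h52 := chart_fix_le (Module.finrank_fin_fun (ZMod 3)) hc hch hsq hx haM hwM hvM
    (by simp [h3.hx.2.1.symm, h3.hy.2.1.symm, h3.hw.2.1.symm, h3.xy, h3.xw, h3.yw])
    h3.hx.2.2 h3.hy.2.2 h3.hw.2.2 h3.cxy h3.cxw h3.cyw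
  have hsub : perp D d ∩ perp D b ∩ fix D z ⊆ {y | y ∈ Mdb ∧ Commute y (x * a * w * v)} := by
    rintro y ⟨hy, hyz⟩
    refine ⟨hy, ?_⟩
    have := hyz.2
    rwa [hzv, show x * (a * w * v) = x * a * w * v by group] at this
  have := Set.ncard_le_ncard hsub (Set.toFinite _)
  omega

omit X h hd hb hdb hle in
/-- Step B: with at most 1620 common partners, fewer than 72 of them are fixed. -/
theorem boundStmt : BoundStmt.{u} := by
  intro X _ _ D z h hz d hd b hb hdb hle
  exact bound_of h hd.1 hb.1 hdb hz hd.2 hb.2 hle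

end H71.Big24
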