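/-
The outer involution with its centraliser of type M(23): notation and the factorisation facts used for
the charts.
-/
import Cfsg.Agent.H71.Big24.Defs
import Cfsg.Agent.H16.Fi24.OuterAt
import Cfsg.Agent.H16.Fi24.OuterCycle
import Cfsg.Agent.H99.Fischer.Wiring
import Cfsg.Agent.H98.Fischer.TypeMap
import Cfsg.Agent.H20.Fi23Asm

set_option autoImplicit false
set_option linter.unusedSectionVars false
set_option linter.style.haveILetI false

namespace H71.Big24

open Cfsg H99 H16.Fi24
open H99.Fi (IsCl IsProd NoRel Trans Facts23)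

universe u

variable {X : Type u} [Group X] [Finite X]

/-- A perfect group acting on a set of at most three elements fixes each of them. -/
theorem perfect_action_trivial {S : Type*} [Group S] (hS : commutator S = ⊤) {α : Type*} [Fintype α]
    [DecidableEq α] (hα : Fintype.card α ≤ 3) (φ : S →* Equiv.Perm α) (x : S) : φ x = 1 := by
  have h1 : ∀ x, φ x ∈ alternatingGroup α := by
    intro x
    have : (⊤ : Subgroup S) ≤ ((Equiv.Perm.sign).comp φ).ker := by
      rw [← hS, commutator_def, Subgroup.commutator_le]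
      intro a _ b _
      rw [MonoidHom.mem_ker, map_commutatorElement, commutatorElement_eq_one_iff_mul_comm, mul_comm]
    exact this (Subgroup.mem_top x)
  let ψ : S →* alternatingGroup α := φ.codRestrict _ h1
  have hcomm : ∀ a b : alternatingGroup α, a * b = b * a := by
    rcases lt_or_ge (Fintype.card α) 2 with h | h
    · haveI : Subsingleton α := Fintype.card_le_one_iff_subsingleton.1 (by omega)
      intro a b
      exact Subtype.ext (Equiv.ext fun _ => Subsingleton.elim _ _)
    · haveI : Nontrivial α := Fintype.one_lt_card_iff_nontrivial.1 h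
      have hc := two_mul_card_alternatingGroup (α := α)
      rw [Fintype.card_perm, ← Nat.card_eq_fintype_card] at hc
      rcases (show Fintype.card α = 2 ∨ Fintype.card α = 3 by omega) with e | e <;>
        simp only [e, Nat.factorial] at hc
      · haveI : Subsingleton (alternatingGroup α) :=
          (Nat.card_eq_one_iff_unique.1 (by omega)).1
        intro a b
        exact Subsingleton.elim _ _
      · haveI : Fact (Nat.Prime 3) := ⟨Nat.prime_three⟩
        haveI : IsCyclic (alternatingGroup α) := isCyclic_of_prime_card (p := 3)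
          (by omega)
        exact IsCyclic.isMulCommutative.is_comm.comm
  have : (⊤ : Subgroup S) ≤ ψ.ker := by
    rw [← hS, commutator_def, Subgroup.commutator_le]
    intro a _ b _
    rw [MonoidHom.mem_ker, map_commutatorElement, commutatorElement_eq_one_iff_mul_comm]
    exact hcomm _ _
  exact congrArg Subtype.val (this (Subgroup.mem_top x) :)

/-- The centraliser of the outer involution in the subgroup of index two. -/
abbrev Yd (G₀ : Subgroup X) (d : X) : Subgroup X := G₀ ⊓ Subgroup.centralizer ({d} : Set X)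

variable {G₀ : Subgroup X} {z : G₀} {Q : Subgroup (Subgroup.centralizer ({z} : Set G₀))} [Q.Normal]

/-- An element of the centraliser. -/
def mkY {d : X} (x : G₀) (h : Commute (x : X) d) : Yd G₀ d :=
  ⟨(x : X), x.2, Subgroup.mem_centralizer_singleton_iff.2 h.eq⟩

/-- The data. -/
structure Input (C : U6Ctx z Q) (d : X) : Prop where
  hidx : G₀.index = 2
  inner : C.Inner
  cenPerfect : commutator C.cen = ⊤
  cenCenter : ∀ x : C.cen, x ∈ Subgroup.center C.cen → (x : G₀) ∈ C.four
  mate : C.Mate d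
  dd : d * d = 1
  dz : Commute d (z : X)
  dcen : ∀ x ∈ C.cen, Commute d ((x : G₀) : X)
  shift : ∃ q : G₀, Commute q (C.e : G₀) ∧ (q : X) * d * (q : X)⁻¹ = ((C.e : G₀) : X) * d
  swap : ∃ h : G₀, h * C.e * h⁻¹ = C.f ∧ Commute (h : X) d
  cls : IsThreeTranspositionClass (conjugatesOf (mkY (C.e : G₀) mate.comm_e.symm))
  prim : IsPrimitiveUnderConj (conjugatesOf (mkY (C.e : G₀) mate.comm_e.symm))
  typ : IsOfTypeM23 ↥(Yd G₀ d) (conjugatesOf (mkY (C.e : G₀) mate.comm_e.symm))

/-- The data exist. -/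
theorem exists_input (hidx : G₀.index = 2) (hF : IsOfLargeFischerTypeAt z Q)
    (hcentral : ∃ P : Sylow 2 G₀, z ∈ (P : Subgroup G₀) ∧ ∀ x ∈ (P : Subgroup G₀), Commute x z)
    (hFX : (generalizedFittingSubgroup ↥(Subgroup.centralizer ({(z : X)} : Set X))).map
      (Subgroup.subtype _) = (Q.map (Subgroup.subtype _)).map G₀.subtype) :
    ∃ (C : U6Ctx z Q) (d : X), Input C d := by
  obtain ⟨C, d, hI, hd, hd2, hdz, hdc, hq, hswap⟩ := exists_outer_data G₀ hidx hF hcentral hFX
  obtain ⟨pt, hG⟩ := U6Ctx.exists_gloc C C.exists_fused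
  obtain ⟨hquasi, hcen⟩ := H75.U6Quot.quasisimple hG
  obtain ⟨t, ht, ht2, htq, ⟨hn, h22⟩, hnwc, hcls, htyp⟩ := m23_at G₀ hidx C hFX hI hd hswap
  obtain ⟨d', -, -, -, -, -, h22'⟩ := H20.F22.facts h22
  obtain ⟨-, hp, -, -⟩ := H20.F23.side ht2 htq h22' hnwc hcls
  obtain rfl : t = mkY (C.e : G₀) hd.comm_e.symm := Subtype.ext ht
  exact ⟨C, d, hidx, hI, hquasi.1.commutator_eq_top,
    fun x hx => by rw [hcen] at hx; exact hx, hd,
    by rw [← pow_two, ← hd2, pow_orderOf_eq_one], hdz, hdc, hq, hswap, hcls, hp, htyp⟩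

namespace Input

variable {C : U6Ctx z Q} {d : X} (S : Input C d)

/-- The transposition `e` of the centraliser. -/
abbrev eY : Yd G₀ d := mkY (C.e : G₀) S.mate.comm_e.symm

/-- The class. -/
abbrev T : Set (Yd G₀ d) := conjugatesOf S.eY

include S in
theorem f_comm : Commute ((C.f : G₀) : X) d :=
  (S.dcen _ (C.mem_cen.2 ⟨C.commute_ef.symm, Commute.refl _⟩)).symm

/-- The transposition `f` of the centraliser. -/
abbrev fY : Yd G₀ d := mkY (C.f : G₀) S.f_comm

theorem e_mem : S.eY ∈ S.T := IsConj.refl _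

theorem f_mem : S.fY ∈ S.T := by
  obtain ⟨h, hh, hd⟩ := S.swap
  exact isConj_iff.2 ⟨mkY h hd, Subtype.ext (congrArg Subtype.val hh :)⟩

theorem facts : Facts23 S.T :=
  H99.Fi.facts_m23
    ⟨S.cls.1, fun g _ ha => (ha : IsConj S.eY _).trans (isConj_iff.2 ⟨g, rfl⟩), S.cls.2.2⟩ S.prim S.typ

theorem conjT (g : Yd G₀ d) {a : Yd G₀ d} (ha : a ∈ S.T) : g * a * g⁻¹ ∈ S.T :=
  (ha : IsConj S.eY a).trans (isConj_iff.2 ⟨g, rfl⟩)

theorem sq_T {a : Yd G₀ d} (ha : a ∈ S.T) : a * a = 1 := tt_mul_self S.cls.1 ha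

theorem ne_one_T {a : Yd G₀ d} (ha : a ∈ S.T) : a ≠ 1 := fun h => by
  have := S.cls.1.1 a ha
  rw [h, orderOf_one] at this
  omega

theorem cl_one {a : Yd G₀ d} (ha : a ∈ S.T) : IsCl S.T [a] :=
  ⟨by simp, by simpa using ha, by simp⟩

theorem cl_pair {a b : Yd G₀ d} (ha : a ∈ S.T) (hb : b ∈ S.T) (hne : a ≠ b) (hc : Commute a b) :
    IsCl S.T [a, b] := by
  refine ⟨by simpa using hne, by simp [ha, hb], ?_⟩
  simp [hc, hc.symm]

theorem cl_triple {a b c : Yd G₀ d} (ha : a ∈ S.T) (hb : b ∈ S.T) (hc : c ∈ S.T) (hab : a ≠ b)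
    (hac : a ≠ c) (hbc : b ≠ c) (cab : Commute a b) (cac : Commute a c) (cbc : Commute b c) :
    IsCl S.T [a, b, c] := by
  refine ⟨by simp [hab, hac, hbc], by simp [ha, hb, hc], ?_⟩
  simp [cab, cab.symm, cac, cac.symm, cbc, cbc.symm]

theorem e_ne_f : S.eY ≠ S.fY := fun h => by
  have h' : (C.e : G₀) = C.f := Subtype.ext (congrArg Subtype.val h :)
  exact absurd (congrArg C.D.Φ (Subtype.ext h' : C.e = C.f)) (by rw [C.e_img, C.f_img]; decide)

theorem ef_comm : Commute S.eY S.fY :=
  Subtype.ext (congrArg Subtype.val C.commute_ef.eq :)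

theorem cl_ef : IsCl S.T [S.eY, S.fY] := S.cl_pair S.e_mem S.f_mem S.e_ne_f S.ef_comm

theorem cl_fe : IsCl S.T [S.fY, S.eY] :=
  S.cl_pair S.f_mem S.e_mem S.e_ne_f.symm S.ef_comm.symm

/-- Three pairwise commuting transpositions do not multiply to one. -/
theorem no_triangle {a b c : Yd G₀ d} (ha : a ∈ S.T) (hb : b ∈ S.T) (hc : c ∈ S.T) (hab : a ≠ b)
    (hac : a ≠ c) (hbc : b ≠ c) (cab : Commute a b) (cac : Commute a c) (cbc : Commute b c) :
    a * b ≠ c := fun h => by
  have := S.facts.noRel _ (S.cl_triple ha hb hc hab hac hbc cab cac cbc) (by simp)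
    (by simp [← mul_assoc, h, S.sq_T hc])
  simp at this

/-- The centraliser of the four-group inside. -/
def cenHom : C.cen →* Yd G₀ d :=
  MonoidHom.mk' (fun x => mkY (x : G₀) (S.dcen _ x.2).symm) fun _ _ => rfl

/-- Any commuting pair of transpositions is moved to `e`, `f`. -/
theorem exists_pair {a b : Yd G₀ d} (ha : a ∈ S.T) (hb : b ∈ S.T) (hne : a ≠ b) (hc : Commute a b) :
    ∃ g : Yd G₀ d, g * S.eY * g⁻¹ = a ∧ g * S.fY * g⁻¹ = b := by
  obtain ⟨g, hg⟩ := S.facts.trans 2 (by norm_num) (by norm_num) _ _ S.cl_ef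
    (S.cl_pair ha hb hne hc) rfl rfl
  simp only [List.map_cons, List.map_nil, List.cons.injEq, and_true] at hg
  exact ⟨g, hg.1, hg.2⟩

theorem mem_cen_of_comm {x : Yd G₀ d} (h1 : Commute x S.eY) (h2 : Commute x S.fY) :
    (⟨(x : X), x.2.1⟩ : G₀) ∈ C.cen :=
  C.mem_cen.2 ⟨Subtype.ext (congrArg Subtype.val h1.eq :), Subtype.ext (congrArg Subtype.val h2.eq :)⟩

/-- A subgroup of the centraliser of a commuting pair of the order of the four-group's centraliser
is all of it, and only the four members of the pair's group centralise it. -/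
theorem pair_centre {a b w : Yd G₀ d} (ha : a ∈ S.T) (hb : b ∈ S.T) (hne : a ≠ b) (hc : Commute a b)
    (ψ : C.cen →* Yd G₀ d) (hψ : Function.Injective ψ) (hψa : ∀ x, Commute (ψ x) a)
    (hψb : ∀ x, Commute (ψ x) b) (hwa : Commute w a) (hwb : Commute w b)
    (hw : ∀ x, Commute w (ψ x)) : w = 1 ∨ w = a ∨ w = b ∨ w = a * b := by
  obtain ⟨g, rfl, rfl⟩ := S.exists_pair ha hb hne hc
  have back : ∀ y : Yd G₀ d, ∀ c : Yd G₀ d, Commute y (g * c * g⁻¹) → Commute (g⁻¹ * y * g) c :=
    fun y c h => by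
      have := h.map (MulAut.conj g⁻¹).toMonoidHom
      simpa [mul_assoc] using this
  let χ : C.cen → C.cen := fun x => ⟨⟨((g⁻¹ * ψ x * g : Yd G₀ d) : X), (g⁻¹ * ψ x * g).2.1⟩,
    S.mem_cen_of_comm (back _ _ (hψa x)) (back _ _ (hψb x))⟩
  have hχ : Function.Injective χ := fun x y h => by
    refine hψ ?_
    have h' : g⁻¹ * ψ x * g = g⁻¹ * ψ y * g :=
      Subtype.ext (congrArg (fun r : C.cen => ((r : G₀) : X)) h :)
    exact mul_left_cancel (mul_right_cancel h')
  have hsurj := Finite.injective_iff_surjective.1 hχ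
  set w' := g⁻¹ * w * g with hw'
  have hmem : (⟨(w' : X), w'.2.1⟩ : G₀) ∈ C.cen :=
    S.mem_cen_of_comm (back _ _ hwa) (back _ _ hwb)
  have hcen : (⟨_, hmem⟩ : C.cen) ∈ Subgroup.center C.cen := by
    refine Subgroup.mem_center_iff.2 fun y => ?_
    obtain ⟨x, rfl⟩ := hsurj y
    refine Subtype.ext (Subtype.ext ?_)
    have := ((hw x).map (MulAut.conj g⁻¹).toMonoidHom).eq.symm
    have h2 : g⁻¹ * ψ x * g * w' = w' * (g⁻¹ * ψ x * g) := by
      simpa [hw', mul_assoc] using this
    exact (congrArg Subtype.val h2 :)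
  have hw4 : ∀ c : G₀, (w' : X) = (c : X) → ∀ hcd : Commute (c : X) d, w = g * mkY c hcd * g⁻¹ :=
    fun c hc' hcd => by
      rw [show mkY c hcd = w' from Subtype.ext hc'.symm, hw']
      group
  rcases C.mem_four.1 (S.cenCenter _ hcen) with e | e | e | e
  · left
    have e' : w' = 1 := Subtype.ext (congrArg Subtype.val e :)
    rw [show w = g * w' * g⁻¹ by rw [hw']; group, e']
    group
  · exact Or.inr (Or.inl (hw4 _ (congrArg Subtype.val e :) _))
  · exact Or.inr (Or.inr (Or.inl (hw4 _ (congrArg Subtype.val e :) _)))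
  · refine Or.inr (Or.inr (Or.inr ?_))
    have e' : w' = S.eY * S.fY := Subtype.ext (congrArg Subtype.val e :)
    rw [show w = g * w' * g⁻¹ by rw [hw']; group, e']
    group

end Input

end H71.Big24
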