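/-
The class of the outer involution has a chart of type M(23) at each member.
-/
import Cfsg.Agent.H71.Big24.ChartsInput
import Cfsg.Agent.H65.Fischer.Triple22

set_option autoImplicit false
set_option linter.unusedSectionVars false
set_option linter.style.haveILetI false

namespace H71.Big24

open Cfsg H99 H16.Fi24
open H99.Fi (IsCl IsProd NoRel Trans Facts23)

universe u

variable {X : Type u} [Group X] [Finite X]
  {G₀ : Subgroup X} {z : G₀} {Q : Subgroup (Subgroup.centralizer ({z} : Set G₀))} [Q.Normal]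
  {C : U6Ctx z Q} {d : X}

namespace Input

variable (S : Input C d)
include S

theorem conj_inner {x : X} (h : IsConj d x) : ∃ g : G₀, (g : X) * d * (g : X)⁻¹ = x := by
  obtain ⟨g, rfl⟩ := isConj_iff.1 h
  by_cases hg : g ∈ G₀
  · exact ⟨⟨g, hg⟩, rfl⟩
  · refine ⟨⟨g * d, ?_⟩, by group⟩
    rw [Subgroup.mul_mem_iff_of_index_two S.hidx]
    exact iff_of_false hg S.mate.notMem

theorem outer {x : X} (h : IsConj d x) : x ∉ G₀ := fun hx => by
  obtain ⟨g, rfl⟩ := S.conj_inner h
  have := U6Ctx.conj_mem S.hidx (g : X)⁻¹ hx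
  exact S.mate.notMem (by simpa [mul_assoc] using this)

/-- A conjugate of a mate by an element fixing `e` is a mate. -/
theorem mate_conj {d' : X} (hd' : C.Mate d') {g : G₀} (hg : Commute g (C.e : G₀)) :
    C.Mate ((g : X) * d' * (g : X)⁻¹) := by
  haveI := Subgroup.normal_of_index_eq_two S.inner.index
  have hge : Commute (g : X) ((C.e : G₀) : X) := congrArg Subtype.val hg.eq
  refine ⟨fun h => hd'.notMem ?_, (hge.mul_left hd'.comm_e).mul_left hge.inv_left, fun k hk => ?_⟩
  · simpa [mul_assoc] using U6Ctx.conj_mem S.hidx (g : X)⁻¹ h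
  · set c : C.Ce := ⟨g, Subgroup.mem_centralizer_singleton_iff.2 hg.eq⟩
    have hk' := Subgroup.Normal.conj_mem inferInstance k hk c⁻¹
    have := (hd'.comm _ hk').map (MulAut.conj (g : X)).toMonoidHom
    simpa [c, mul_assoc] using this

/-- The action of the cyclic element: `d`, `f d`, `e d` are permuted cyclically. -/
theorem cycle :
    ∃ k : G₀, k * C.e * k⁻¹ = C.f ∧ k * C.f * k⁻¹ = (C.e : G₀) * C.f ∧
      (k : X) * d * (k : X)⁻¹ = ((C.f : G₀) : X) * d ∧
      (k : X) * (((C.e : G₀) : X) * d) * (k : X)⁻¹ = d := by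
  obtain ⟨k, hke, hkf⟩ := C.exists_cycle
  obtain ⟨h, hh, hhd⟩ := S.swap
  set ee : X := ((C.e : G₀) : X) with hee
  set ff : X := ((C.f : G₀) : X) with hff
  have ke : (k : X) * ee * (k : X)⁻¹ = ff := congrArg Subtype.val hke
  have kf : (k : X) * ff * (k : X)⁻¹ = ee * ff := congrArg Subtype.val hkf
  have he : (h : X) * ee * (h : X)⁻¹ = ff := congrArg Subtype.val hh
  have ff2 : ff * ff = 1 := congrArg Subtype.val C.ef_sq.2
  have ee2 : ee * ee = 1 := congrArg Subtype.val C.ef_sq.1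
  have hef : ff * ee = ee * ff := (congrArg Subtype.val C.commute_ef.eq).symm
  -- the conjugate is a mate of `f`
  have hg : Commute (h⁻¹ * k) (C.e : G₀) := by
    refine mul_inv_eq_iff_eq_mul.1 ?_
    calc h⁻¹ * k * C.e * (h⁻¹ * k)⁻¹ = h⁻¹ * (k * C.e * k⁻¹) * h := by group
      _ = h⁻¹ * (h * C.e * h⁻¹) * h := by rw [hke, hh]
      _ = _ := by group
  have hm := C.mate_unique S.hidx S.inner S.mate (S.mate_conj S.mate hg)
  set d1 := (k : X) * d * (k : X)⁻¹ with hd1
  have hback : d1 = (h : X) * (((h⁻¹ * k : G₀) : X) * d * ((h⁻¹ * k : G₀) : X)⁻¹) * (h : X)⁻¹ := by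
    simp [hd1, mul_assoc]
  have hne : d1 ≠ d := by
    intro e
    have hkd : Commute (k : X) d := mul_inv_eq_iff_eq_mul.1 e
    set kY := mkY k hkd
    have hef' : S.eY * S.fY ∈ S.T := by
      have := S.conjT kY S.f_mem
      rwa [show kY * S.fY * kY⁻¹ = S.eY * S.fY from Subtype.ext kf] at this
    refine S.no_triangle S.e_mem S.f_mem hef' S.e_ne_f (fun h => ?_) (fun h => ?_) S.ef_comm
      ((Commute.refl _).mul_right S.ef_comm) (S.ef_comm.symm.mul_right (Commute.refl _)) rfl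
    · exact S.ne_one_T S.f_mem (left_eq_mul.1 h)
    · exact S.ne_one_T S.e_mem (right_eq_mul.1 h)
  have hd1' : d1 = ff * d := by
    rcases hm with e | e
    · exfalso
      refine hne ?_
      rw [hback, mul_inv_eq_one.1 e]
      exact mul_inv_eq_of_eq_mul hhd.eq
    · rw [hback, mul_inv_eq_iff_eq_mul.1 e]
      calc (h : X) * (ee * d) * (h : X)⁻¹ = ((h : X) * ee * (h : X)⁻¹) * ((h : X) * d * (h : X)⁻¹) := by
            group
        _ = ff * d := by rw [he, mul_inv_eq_of_eq_mul hhd.eq]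
  refine ⟨k, hke, hkf, hd1', ?_⟩
  calc (k : X) * (ee * d) * (k : X)⁻¹ = ((k : X) * ee * (k : X)⁻¹) * d1 := by rw [hd1]; group
    _ = d := by rw [ke, hd1', ← mul_assoc, ff2, one_mul]

/-- The product of `e`, `f` and `d` is not in the class. -/
theorem efd_not_conj : ¬ IsConj d (((C.e : G₀) : X) * ((C.f : G₀) : X) * d) := by
  intro hconj
  set ee : X := ((C.e : G₀) : X) with hee
  set ff : X := ((C.f : G₀) : X) with hff
  set a := ee * ff * d with ha
  obtain ⟨g, hga⟩ := S.conj_inner hconj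
  obtain ⟨k, hke, hkf, hkd, hked⟩ := S.cycle
  have hef : ff * ee = ee * ff := (congrArg Subtype.val C.commute_ef.eq).symm
  have ff2 : ff * ff = 1 := congrArg Subtype.val C.ef_sq.2
  have hka : Commute (k : X) a := by
    refine mul_inv_eq_iff_eq_mul.1 ?_
    have k1 : (k : X) * ee * (k : X)⁻¹ = ff := congrArg Subtype.val hke
    have k2 : (k : X) * ff * (k : X)⁻¹ = ee * ff := congrArg Subtype.val hkf
    calc (k : X) * a * (k : X)⁻¹ = ((k : X) * ee * (k : X)⁻¹) * ((k : X) * ff * (k : X)⁻¹) *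
          ((k : X) * d * (k : X)⁻¹) := by rw [ha]; group
      _ = ff * (ee * ff) * (ff * d) := by rw [k1, k2, hkd]
      _ = ee * (ff * ff) * (ff * d) := by rw [← mul_assoc ff ee ff, hef]; group
      _ = a := by rw [ff2, ha]; group
  have hmem : ∀ x ∈ C.four, x ∈ C.cen := fun x hx => H75.U6Quot.four_le_cen C hx
  have hcenA : ∀ x ∈ C.cen, Commute ((x : G₀) : X) a := fun x hx => by
    have h1 : Commute ((x : G₀) : X) ee := congrArg Subtype.val (C.mem_cen.1 hx).1.eq
    have h2 : Commute ((x : G₀) : X) ff := congrArg Subtype.val (C.mem_cen.1 hx).2.eq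
    exact (h1.mul_right h2).mul_right (S.dcen x hx).symm
  -- pulling back the centraliser of `a`
  have hpull : ∀ x : G₀, Commute (x : X) a → Commute ((g⁻¹ * x * g : G₀) : X) d := fun x hx => by
    have := hx.map (MulAut.conj (g : X)⁻¹).toMonoidHom
    rw [← hga] at this
    simpa [mul_assoc] using this
  let ψ : C.cen →* Yd G₀ d := MonoidHom.mk' (fun x => mkY _ (hpull x (hcenA x x.2))) fun x y =>
    Subtype.ext (by simp [mkY, mul_assoc])
  have hψ : Function.Injective ψ := fun x y h => by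
    have h' : g⁻¹ * (x : G₀) * g = g⁻¹ * (y : G₀) * g := Subtype.ext (congrArg Subtype.val h :)
    exact Subtype.ext (mul_left_cancel (mul_right_cancel h'))
  have hefour : (C.e : G₀) ∈ C.four := C.mem_four.2 (Or.inr (Or.inl rfl))
  have hffour : (C.f : G₀) ∈ C.four := C.mem_four.2 (Or.inr (Or.inr (Or.inl rfl)))
  set e' : C.cen := ⟨_, hmem _ hefour⟩
  set f' : C.cen := ⟨_, hmem _ hffour⟩
  set e1 := ψ e' with he1
  set f1 := ψ f' with hf1
  set k1 := mkY _ (hpull k hka) with hk1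
  have hk1e : k1 * e1 * k1⁻¹ = f1 := Subtype.ext (by
    have := congrArg (fun w : G₀ => ((g⁻¹ * w * g : G₀) : X)) hke
    simpa [k1, e1, f1, ψ, mkY, e', f', mul_assoc] using this)
  have hk1f : k1 * f1 * k1⁻¹ = e1 * f1 := Subtype.ext (by
    have := congrArg (fun w : G₀ => ((g⁻¹ * w * g : G₀) : X)) hkf
    simpa [k1, e1, f1, ψ, mkY, e', f', mul_assoc] using this)
  have he11 : e1 * e1 = 1 := by
    rw [he1, ← map_mul]
    have : e' * e' = 1 := Subtype.ext C.ef_sq.1
    rw [this, map_one]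
  have hne1 : e1 ≠ 1 := fun h => by
    have := congrArg Subtype.val (hψ (h.trans (map_one ψ).symm))
    exact C.e_ne.1 this
  have hf1ne : f1 ≠ e1 := fun h => by
    have h' : (C.f : G₀) = C.e := (congrArg (fun w : C.cen => (w : G₀)) (hψ h) :)
    exact absurd (congrArg C.D.Φ (Subtype.ext h' : C.f = C.e)) (by rw [C.e_img, C.f_img]; decide)
  have hce : ∀ x, Commute (ψ x) e1 := fun x => by
    refine Commute.map ?_ ψ
    exact Subtype.ext (C.mem_cen.1 x.2).1.eq
  have hcf : ∀ x, Commute (ψ x) f1 := fun x => by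
    refine Commute.map ?_ ψ
    exact Subtype.ext (C.mem_cen.1 x.2).2.eq
  obtain ⟨m, hm1, hm3, l, hl, hlm, hlp⟩ := S.facts.invol e1
    (orderOf_eq_prime (by rw [pow_two]; exact he11) hne1)
  have hT : IsThreeTranspositionSet S.T := S.cls.1
  have hconjT : ∀ g : Yd G₀ d, ∀ a ∈ S.T, g * a * g⁻¹ ∈ S.T := fun g a ha => S.conjT g ha
  -- the members of the factorisation are fixed by the four-group's centraliser
  have hfix : ∀ x : C.cen, ∀ b ∈ l, ψ x * b * (ψ x)⁻¹ = b := by
    classical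
    have hperm : ∀ x : C.cen, ∀ b, b ∈ l → ψ x * b * (ψ x)⁻¹ ∈ l := by
      intro x b hb
      have h' := H99.Fi.factor_unique hT hconjT S.facts.noRel (hl.map_conj hconjT (ψ x)) hl
        (by simpa using hlm.trans_le hm3) (by simp; omega) (by
          rw [H99.Fi.prod_map_conj, hlp, mul_inv_eq_of_eq_mul (hce x).eq])
      exact h'.mem_iff.1 (List.mem_map.2 ⟨b, hb, rfl⟩)
    let φ : C.cen →* Equiv.Perm {b // b ∈ l.toFinset} := MonoidHom.mk'
      (fun x => Equiv.ofBijective
        (fun b => ⟨ψ x * b.1 * (ψ x)⁻¹, List.mem_toFinset.2 (hperm x _ (List.mem_toFinset.1 b.2))⟩)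
        (Finite.injective_iff_bijective.1 fun b c h =>
          Subtype.ext (mul_left_cancel (mul_right_cancel (congrArg Subtype.val h)))))
      fun x y => Equiv.ext fun b => Subtype.ext (by simp [mul_assoc])
    intro x b hb
    have hcard : Fintype.card {b // b ∈ l.toFinset} ≤ 3 := by
      rw [Fintype.card_coe]
      exact (List.toFinset_card_le _).trans (by omega)
    have := congrArg Subtype.val
      (congrArg (fun σ : Equiv.Perm _ => σ ⟨b, List.mem_toFinset.2 hb⟩)
        (perfect_action_trivial S.cenPerfect hcard φ x))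
    simpa [φ] using this
  rcases (show m = 1 ∨ m = 2 ∨ m = 3 by omega) with rfl | rfl | rfl
  · -- one transposition
    obtain ⟨u, rfl⟩ := List.length_eq_one_iff.1 hlm
    have he1T : e1 ∈ S.T := by
      rw [← hlp, List.prod_singleton]; exact hl.2.1 u (by simp)
    have hf1T : f1 ∈ S.T := hk1e ▸ S.conjT k1 he1T
    have hg1T : e1 * f1 ∈ S.T := hk1f ▸ S.conjT k1 hf1T
    refine S.no_triangle he1T hf1T hg1T hf1ne.symm (fun h => ?_) (fun h => ?_) (hce f').symm
      ((Commute.refl _).mul_right (hce f').symm) ((hce f').mul_right (Commute.refl _)) rfl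
    · exact S.ne_one_T hf1T (left_eq_mul.1 h)
    · exact S.ne_one_T he1T (right_eq_mul.1 h)
  · -- two
    obtain ⟨u, v, rfl⟩ := List.length_eq_two.1 hlm
    have hu := hl.2.1 u (by simp)
    have hv := hl.2.1 v (by simp)
    have huv : u ≠ v := by simpa using hl.1
    have hcuv : Commute u v := hl.2.2 u (by simp) v (by simp)
    have hfixu : ∀ x, Commute (ψ x) u := fun x => mul_inv_eq_iff_eq_mul.1 (hfix x u (by simp))
    have hfixv : ∀ x, Commute (ψ x) v := fun x => mul_inv_eq_iff_eq_mul.1 (hfix x v (by simp))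
    have hp : u * v = e1 := by simpa using hlp
    have hf1' := S.pair_centre hu hv huv hcuv ψ hψ hfixu hfixv (hfixu f') (hfixv f')
      (fun x => (hcf x).symm)
    have hf1prod : IsProd S.T 2 f1 := ⟨_, hl.map_conj hconjT k1, by simp, by
      rw [H99.Fi.prod_map_conj, hlp, hk1e]⟩
    have hnot1 : ∀ w ∈ S.T, f1 ≠ w := fun w hw e => by
      have := H99.Fi.length_unique hT hconjT S.facts.noRel (m := 2) (m' := 1) hf1prod
        ⟨[w], S.cl_one hw, rfl, by simp [e]⟩ (by norm_num) (by norm_num) (fun _ => by norm_num)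
      omega
    rcases hf1' with h | h | h | h
    · have e : (C.f : G₀) = 1 :=
        (congrArg (fun w : C.cen => (w : G₀)) (hψ (h.trans (map_one ψ).symm)) :)
      have := (C.D.eq_zero _ C.hf').2 (Or.inl e)
      rw [C.f_img] at this
      exact absurd this (by decide)
    · exact hnot1 u hu h
    · exact hnot1 v hv h
    · exact hf1ne (h.trans hp)
  · -- three
    obtain ⟨u, v, w, rfl⟩ := List.length_eq_three.1 hlm
    have hu := hl.2.1 u (by simp)
    have hv := hl.2.1 v (by simp)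
    have hw := hl.2.1 w (by simp)
    have hnd := hl.1
    simp only [List.nodup_cons, List.mem_cons, List.not_mem_nil, or_false, not_or,
      List.nodup_nil, and_true, not_false_eq_true] at hnd
    obtain ⟨⟨huv, huw⟩, hvw⟩ := hnd
    have cuv : Commute u v := hl.2.2 u (by simp) v (by simp)
    have cuw : Commute u w := hl.2.2 u (by simp) w (by simp)
    have cvw : Commute v w := hl.2.2 v (by simp) w (by simp)
    have hfx : ∀ b ∈ [u, v, w], ∀ x, Commute (ψ x) b := fun b hb x =>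
      mul_inv_eq_iff_eq_mul.1 (hfix x b hb)
    have h' := S.pair_centre hu hv huv cuv ψ hψ (hfx u (by simp)) (hfx v (by simp)) cuw.symm cvw.symm
      (fun x => (hfx w (by simp) x).symm)
    rcases h' with h | h | h | h
    · exact S.ne_one_T hw h
    · exact huw h.symm
    · exact hvw h.symm
    · exact S.no_triangle hu hv hw huv huw hvw cuv cuw cvw h.symm

/-- For a commuting pair `u`, `v` of transpositions, `u d` is a conjugate of `d` by an element
carrying a transposition times `d` to `v d`. -/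
theorem shift_pair {u v : Yd G₀ d} (hu : u ∈ S.T) (hv : v ∈ S.T) (hne : u ≠ v) (hc : Commute u v) :
    ∃ g : G₀, (g : X) * d * (g : X)⁻¹ = (u : X) * d ∧
      ∃ s ∈ S.T, (g : X) * ((s : X) * d) * (g : X)⁻¹ = (v : X) * d := by
  obtain ⟨y, hye, hyf⟩ := S.exists_pair hv hu hne.symm hc.symm
  obtain ⟨k, hke, hkf, hkd, hked⟩ := S.cycle
  have hyd : Commute (y : X) d := Subgroup.mem_centralizer_singleton_iff.1 y.2.2
  have hyd' : (y : X) * d * (y : X)⁻¹ = d := mul_inv_eq_of_eq_mul hyd.eq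
  refine ⟨⟨y, y.2.1⟩ * k, ?_, S.fY, S.f_mem, ?_⟩
  · simp only [Subgroup.coe_mul, mul_inv_rev]
    calc (y : X) * (k : X) * d * ((k : X)⁻¹ * (y : X)⁻¹)
        = (y : X) * ((k : X) * d * (k : X)⁻¹) * (y : X)⁻¹ := by group
      _ = ((y : X) * ((C.f : G₀) : X) * (y : X)⁻¹) * ((y : X) * d * (y : X)⁻¹) := by rw [hkd]; group
      _ = _ := by
        rw [hyd', show (y : X) * ((C.f : G₀) : X) * (y : X)⁻¹ = (u : X) from congrArg Subtype.val hyf]
  · have kf : (k : X) * ((C.f : G₀) : X) * (k : X)⁻¹ = ((C.e : G₀) : X) * ((C.f : G₀) : X) :=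
      congrArg Subtype.val hkf
    simp only [Subgroup.coe_mul, mul_inv_rev]
    show (y : X) * (k : X) * (((C.f : G₀) : X) * d) * ((k : X)⁻¹ * (y : X)⁻¹) = _
    calc (y : X) * (k : X) * (((C.f : G₀) : X) * d) * ((k : X)⁻¹ * (y : X)⁻¹)
        = (y : X) * (((k : X) * ((C.f : G₀) : X) * (k : X)⁻¹) * ((k : X) * d * (k : X)⁻¹)) *
            (y : X)⁻¹ := by group
      _ = (y : X) * (((C.e : G₀) : X) * (((C.f : G₀) : X) * ((C.f : G₀) : X)) * d) * (y : X)⁻¹ := by
        rw [kf, hkd]; group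
      _ = ((y : X) * ((C.e : G₀) : X) * (y : X)⁻¹) * ((y : X) * d * (y : X)⁻¹) := by
        rw [show ((C.f : G₀) : X) * ((C.f : G₀) : X) = 1 from congrArg Subtype.val C.ef_sq.2]; group
      _ = _ := by
        rw [hyd', show (y : X) * ((C.e : G₀) : X) * (y : X)⁻¹ = (v : X) from congrArg Subtype.val hye]

omit S in
theorem comm_d (y : Yd G₀ d) : Commute (y : X) d := Subgroup.mem_centralizer_singleton_iff.1 y.2.2

/-- Products of two commuting transpositions with `d` are not in the class. -/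
theorem pair_not_conj {u v : Yd G₀ d} (hu : u ∈ S.T) (hv : v ∈ S.T) (hne : u ≠ v) (hc : Commute u v) :
    ¬ IsConj d ((u : X) * (v : X) * d) := by
  obtain ⟨y, hye, hyf⟩ := S.exists_pair hu hv hne hc
  intro h
  refine S.efd_not_conj (h.trans (isConj_iff.2 ⟨(y : X)⁻¹, ?_⟩))
  rw [← hye, ← hyf]
  simp only [Subgroup.coe_mul, Subgroup.coe_inv]
  have h1 : (y : X) * d * (y : X)⁻¹ = d := mul_inv_eq_of_eq_mul (comm_d y).eq
  calc (y : X)⁻¹ * ((y : X) * ((C.e : G₀) : X) * (y : X)⁻¹ * ((y : X) * ((C.f : G₀) : X) * (y : X)⁻¹) * d) *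
        (y : X)⁻¹⁻¹
      = ((C.e : G₀) : X) * ((C.f : G₀) : X) * ((y : X)⁻¹ * d * (y : X)) := by group
    _ = _ := by
      rw [show (y : X)⁻¹ * d * (y : X) = d from by
        calc (y : X)⁻¹ * d * (y : X) = (y : X)⁻¹ * (d * (y : X)) := mul_assoc _ _ _
          _ = _ := by rw [← (comm_d y).eq, inv_mul_cancel_left]]

/-- Products of three pairwise commuting transpositions with `d` are not in the class. -/
theorem triple_not_conj {u v w : Yd G₀ d} (hu : u ∈ S.T) (hv : v ∈ S.T) (hw : w ∈ S.T) (huv : u ≠ v)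
    (huw : u ≠ w) (hvw : v ≠ w) (cuv : Commute u v) (cuw : Commute u w) (cvw : Commute v w) :
    ¬ IsConj d ((u : X) * (v : X) * (w : X) * d) := by
  obtain ⟨g, hgd, s, hs, hgs⟩ := S.shift_pair hu hv huv cuv
  obtain ⟨g', hgd', s', hs', hgs'⟩ := S.shift_pair hu hw huw cuw
  have hcomm : Commute ((g⁻¹ * g' : G₀) : X) d := by
    refine mul_inv_eq_iff_eq_mul.1 ?_
    calc ((g⁻¹ * g' : G₀) : X) * d * ((g⁻¹ * g' : G₀) : X)⁻¹
        = (g : X)⁻¹ * ((g' : X) * d * (g' : X)⁻¹) * (g : X) := by simp [mul_assoc]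
      _ = d := by rw [hgd', ← hgd]; group
  set y := mkY (g⁻¹ * g') hcomm
  set s'' := y * s' * y⁻¹
  have hs'' : s'' ∈ S.T := S.conjT y hs'
  have hyd : (y : X) * d * (y : X)⁻¹ = d := mul_inv_eq_of_eq_mul (comm_d y).eq
  have hgs'' : (g : X) * ((s'' : X) * d) * (g : X)⁻¹ = (w : X) * d := by
    rw [← hgs']
    calc (g : X) * ((s'' : X) * d) * (g : X)⁻¹
        = (g : X) * ((y : X) * (s' : X) * (y : X)⁻¹ * ((y : X) * d * (y : X)⁻¹)) * (g : X)⁻¹ := by
          rw [hyd]; rfl
      _ = _ := by simp [y, mkY, mul_assoc]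
  have hd2 : d * d = 1 := S.dd
  have hud := comm_d u
  have hvd := comm_d v
  have hwd := comm_d w
  have hsne : s ≠ s'' := fun e => hvw (Subtype.ext (mul_right_cancel (hgs.symm.trans (e ▸ hgs''))))
  have hsc : Commute s s'' := by
    have h1 : Commute ((v : X) * d) ((w : X) * d) :=
      ((show Commute (v : X) (w : X) from congrArg Subtype.val cvw.eq).mul_right hvd).mul_left
        (hwd.symm.mul_right (Commute.refl d))
    rw [← hgs, ← hgs''] at h1
    have h2 := (conj_commute_iff (g : X) _ _).1 h1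
    refine Subtype.ext ?_
    have h3 := h2.eq
    have sd := comm_d s
    have sd' := comm_d s''
    have e1 : ∀ a b : X, Commute b d → a * d * (b * d) = a * b := fun a b hb => by
      rw [mul_assoc, ← mul_assoc d, ← hb.eq, mul_assoc b, hd2, mul_one]
    rw [e1 _ _ sd', e1 _ _ sd] at h3
    exact h3
  intro h
  refine S.pair_not_conj hs hs'' hsne hsc (h.trans (isConj_iff.2 ⟨(g : X)⁻¹, ?_⟩))
  have key : (u : X) * (v : X) * (w : X) * d = ((v : X) * d) * ((u : X) * d) * ((w : X) * d) := by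
    calc (u : X) * (v : X) * (w : X) * d = (v : X) * (u : X) * (w : X) * d := by
          rw [show (u : X) * v = v * u from congrArg Subtype.val cuv.eq]
      _ = (v : X) * (u : X) * (d * d) * (w : X) * d := by rw [hd2, mul_one]
      _ = (v : X) * ((u : X) * d) * d * (w : X) * d := by group
      _ = (v : X) * (d * (u : X)) * d * (w : X) * d := by rw [hud.eq]
      _ = _ := by group
  have sd := comm_d s
  rw [key, ← hgs, ← hgs'', ← hgd, inv_inv]
  calc (g : X)⁻¹ * ((g : X) * ((s : X) * d) * (g : X)⁻¹ * ((g : X) * d * (g : X)⁻¹) *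
        ((g : X) * ((s'' : X) * d) * (g : X)⁻¹)) * (g : X)
      = (s : X) * (d * d) * (s'' : X) * d := by group
    _ = _ := by rw [hd2, mul_one]

/-- The members commuting with `d`. -/
theorem perp_eq : perp (conjugatesOf d) d = (fun t : Yd G₀ d => d * (t : X)) '' S.T := by
  obtain ⟨q, hqe, hqd⟩ := S.shift
  have hed : IsConj d (d * ((C.e : G₀) : X)) :=
    isConj_iff.2 ⟨(q : X), hqd.trans S.mate.comm_e.eq.symm⟩
  ext a
  constructor
  · rintro ⟨haD, had, hc⟩
    have haG := S.outer (haD : IsConj d a)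
    have hmem : d * a ∈ G₀ := by
      rw [Subgroup.mul_mem_iff_of_index_two S.hidx]
      exact iff_of_false S.mate.notMem haG
    set y : Yd G₀ d := mkY ⟨d * a, hmem⟩ ((Commute.refl d).mul_left hc.symm) with hy
    have ha : a = (y : X) * d := by
      show a = d * a * d
      rw [mul_assoc, ← hc.eq, ← mul_assoc, S.dd, one_mul]
    have haa : a * a = 1 := by
      obtain ⟨g, rfl⟩ := isConj_iff.1 (haD : IsConj d a)
      calc g * d * g⁻¹ * (g * d * g⁻¹) = g * (d * d) * g⁻¹ := by group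
        _ = 1 := by rw [S.dd]; group
    have hy2 : orderOf y = 2 := by
      refine orderOf_eq_prime (Subtype.ext ?_) fun e => had ?_
      · simp only [pow_two, Subgroup.coe_mul, Subgroup.coe_one]
        show d * a * (d * a) = 1
        rw [mul_assoc, ← mul_assoc a, ← hc.eq, mul_assoc d a, haa, mul_one, S.dd]
      · rw [ha, e, Subgroup.coe_one, one_mul]
    obtain ⟨m, hm1, hm3, l, hl, hlm, hlp⟩ := S.facts.invol y hy2
    rcases (show m = 1 ∨ m = 2 ∨ m = 3 by omega) with rfl | rfl | rfl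
    · obtain ⟨u, rfl⟩ := List.length_eq_one_iff.1 hlm
      refine ⟨u, hl.2.1 u (by simp), ?_⟩
      show d * (u : X) = a
      rw [ha, ← hlp, List.prod_singleton]
      exact (comm_d u).eq.symm
    · obtain ⟨u, v, rfl⟩ := List.length_eq_two.1 hlm
      refine absurd (haD : IsConj d a) ?_
      rw [ha, ← hlp, List.prod_cons, List.prod_singleton, Subgroup.coe_mul]
      exact S.pair_not_conj (hl.2.1 u (by simp)) (hl.2.1 v (by simp)) (by simpa using hl.1)
        (hl.2.2 u (by simp) v (by simp))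
    · obtain ⟨u, v, w, rfl⟩ := List.length_eq_three.1 hlm
      refine absurd (haD : IsConj d a) ?_
      have hnd := hl.1
      simp only [List.nodup_cons, List.mem_cons, List.not_mem_nil, or_false, not_or,
        List.nodup_nil, and_true, not_false_eq_true] at hnd
      obtain ⟨⟨huv, huw⟩, hvw⟩ := hnd
      rw [ha, ← hlp, List.prod_cons, List.prod_cons, List.prod_singleton, Subgroup.coe_mul,
        Subgroup.coe_mul, ← mul_assoc]
      exact S.triple_not_conj (hl.2.1 u (by simp)) (hl.2.1 v (by simp)) (hl.2.1 w (by simp)) huv huw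
        hvw (hl.2.2 u (by simp) v (by simp)) (hl.2.2 u (by simp) w (by simp))
        (hl.2.2 v (by simp) w (by simp))
  · rintro ⟨t, ht, rfl⟩
    obtain ⟨y, rfl⟩ := isConj_iff.1 (ht : IsConj S.eY t)
    have hyd := comm_d (y * S.eY * y⁻¹)
    refine ⟨hed.trans (isConj_iff.2 ⟨(y : X), ?_⟩), fun e => ?_, (Commute.refl d).mul_right hyd.symm⟩
    · calc (y : X) * (d * ((C.e : G₀) : X)) * (y : X)⁻¹
          = ((y : X) * d * (y : X)⁻¹) * ((y : X) * ((C.e : G₀) : X) * (y : X)⁻¹) := by group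
        _ = _ := by rw [mul_inv_eq_of_eq_mul (comm_d y).eq]; rfl
    · exact S.ne_one_T ht (Subtype.ext (mul_eq_left.1 e))

/-- The chart at the outer involution. -/
theorem chart : Chart (conjugatesOf d) d := by
  refine ⟨Yd G₀ d, S.T, fun h => S.mate.notMem h.1, fun y => (comm_d y).symm, fun g hg => ?_,
    S.cls, S.prim, S.typ, S.perp_eq⟩
  by_cases hgG : g ∈ G₀
  · exact Or.inl ⟨hgG, Subgroup.mem_centralizer_singleton_iff.2 hg.symm.eq⟩
  · refine Or.inr ⟨?_, Subgroup.mem_centralizer_singleton_iff.2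
      ((Commute.refl d).mul_left hg.symm).eq⟩
    show d * g ∈ G₀
    rw [Subgroup.mul_mem_iff_of_index_two S.hidx]
    exact iff_of_false S.mate.notMem hgG

/-- The product of a commuting pair determines it. -/
theorem pair_uniq {a b x y : X} (ha : IsConj d a) (hb : b ∈ perp (conjugatesOf d) a)
    (hx : IsConj d x) (hy : y ∈ perp (conjugatesOf d) x) (he : a * b = x * y) : a = x ∨ a = y := by
  -- move `a`, `b` to `d`, `d e`
  obtain ⟨g, rfl⟩ := isConj_iff.1 ha
  have hconj : ∀ h : X, ∀ w ∈ conjugatesOf d, h * w * h⁻¹ ∈ conjugatesOf d :=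
    fun h w hw => (hw : IsConj d w).trans (isConj_iff.2 ⟨h, rfl⟩)
  have hcanon : ∀ w v : X, IsConj d w → v ∈ perp (conjugatesOf d) w →
      ∃ h : X, h * d * h⁻¹ = w ∧ h * (d * ((C.e : G₀) : X)) * h⁻¹ = v := by
    intro w v hw hv
    obtain ⟨h, rfl⟩ := isConj_iff.1 hw
    have hv' : h⁻¹ * v * h ∈ perp (conjugatesOf d) d := by
      have := perp_conj hconj h⁻¹ hv
      simpa [mul_assoc] using this
    rw [S.perp_eq] at hv'
    obtain ⟨t, ht, htv⟩ := hv'
    obtain ⟨r, rfl⟩ := isConj_iff.1 (ht : IsConj S.eY t)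
    have hrd : (r : X) * d * (r : X)⁻¹ = d := mul_inv_eq_of_eq_mul (comm_d r).eq
    refine ⟨h * (r : X), ?_, ?_⟩
    · calc h * (r : X) * d * (h * (r : X))⁻¹ = h * ((r : X) * d * (r : X)⁻¹) * h⁻¹ := by group
        _ = _ := by rw [hrd]
    · have htv' : d * ((r * S.eY * r⁻¹ : Yd G₀ d) : X) = h⁻¹ * v * h := htv
      calc h * (r : X) * (d * ((C.e : G₀) : X)) * (h * (r : X))⁻¹
          = h * (((r : X) * d * (r : X)⁻¹) * ((r * S.eY * r⁻¹ : Yd G₀ d) : X)) * h⁻¹ := by
            simp [eY, mkY, mul_assoc]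
        _ = v := by rw [hrd, htv']; group
  obtain ⟨h1, h1a, h1b⟩ := hcanon _ b ha hb
  obtain ⟨h2, h2x, h2y⟩ := hcanon x y hx hy
  set ee : X := ((C.e : G₀) : X)
  have hp : h1 * ee * h1⁻¹ = h2 * ee * h2⁻¹ := by
    have e1 : ∀ h : X, (h * d * h⁻¹) * (h * (d * ee) * h⁻¹) = h * ee * h⁻¹ := fun h => by
      calc (h * d * h⁻¹) * (h * (d * ee) * h⁻¹) = h * (d * d * ee) * h⁻¹ := by group
        _ = _ := by rw [S.dd, one_mul]
    rw [← e1 h1, ← e1 h2, h1a, h1b, h2x, h2y, he]
  obtain ⟨r, hrd, hre⟩ : ∃ r : G₀, (r : X) * d * (r : X)⁻¹ = h1⁻¹ * x * h1 ∧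
      Commute (r : X) ee := by
    have hc : Commute (h1⁻¹ * h2) ee := by
      refine mul_inv_eq_iff_eq_mul.1 ?_
      calc h1⁻¹ * h2 * ee * (h1⁻¹ * h2)⁻¹ = h1⁻¹ * (h2 * ee * h2⁻¹) * h1 := by group
        _ = ee := by rw [← hp]; group
    by_cases hm : h1⁻¹ * h2 ∈ G₀
    · refine ⟨⟨_, hm⟩, ?_, hc⟩
      rw [← h2x]; group
    · refine ⟨⟨h1⁻¹ * h2 * d, ?_⟩, ?_, hc.mul_left S.mate.comm_e⟩
      · rw [Subgroup.mul_mem_iff_of_index_two S.hidx]
        exact iff_of_false hm S.mate.notMem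
      · rw [← h2x]; group
  have hm := C.mate_unique S.hidx S.inner S.mate
    (S.mate_conj S.mate (g := r) (Subtype.ext hre.eq))
  rw [hrd] at hm
  have hx' : x = h1 * (h1⁻¹ * x * h1) * h1⁻¹ := by group
  rcases hm with e | e
  · left
    rw [hx', mul_inv_eq_one.1 e, h1a]
  · right
    have hxb : x = b := by
      rw [hx', mul_inv_eq_iff_eq_mul.1 e, S.mate.comm_e.symm.eq, h1b]
    have hyd := hy.2.2
    rw [← hxb] at he
    calc g * d * g⁻¹ = (g * d * g⁻¹ * x) * x⁻¹ := by group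
      _ = (x * y) * x⁻¹ := by rw [he]
      _ = y := by rw [hyd.eq]; group

theorem notPair {x y : X} (hF : IsOfLargeFischerTypeAt z Q) (hx : IsConj d x)
    (hy : y ∈ perp (conjugatesOf d) x) : ¬ IsConj (z : X) (x * y) := by
  intro h
  have hne := C.e_ne.2.2
  obtain ⟨g, rfl⟩ := isConj_iff.1 hx
  have hconj : ∀ h : X, ∀ w ∈ conjugatesOf d, h * w * h⁻¹ ∈ conjugatesOf d :=
    fun h w hw => (hw : IsConj d w).trans (isConj_iff.2 ⟨h, rfl⟩)
  have hy' : g⁻¹ * y * g ∈ perp (conjugatesOf d) d := by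
    have := perp_conj hconj g⁻¹ hy
    simpa [mul_assoc] using this
  rw [S.perp_eq] at hy'
  obtain ⟨t, ht, hty⟩ := hy'
  have hty' : d * (t : X) = g⁻¹ * y * g := hty
  have hte : IsConj (((C.e : G₀)) : X) (t : X) := by
    obtain ⟨r, rfl⟩ := isConj_iff.1 (ht : IsConj S.eY t)
    exact isConj_iff.2 ⟨(r : X), rfl⟩
  have hzt : IsConj (z : X) (t : X) := h.trans (isConj_iff.2 ⟨g⁻¹, by
    calc g⁻¹ * (g * d * g⁻¹ * y) * g⁻¹⁻¹ = d * (g⁻¹ * y * g) := by group
      _ = (t : X) := by rw [← hty', ← mul_assoc, S.dd, one_mul]⟩)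
  obtain ⟨r, hr⟩ := isConj_iff.1 (hzt.trans hte.symm)
  by_cases hm : r ∈ G₀
  · exact hne (isConj_iff.2 ⟨⟨r, hm⟩, Subtype.ext hr⟩)
  · refine hne (isConj_iff.2 ⟨⟨r * d, ?_⟩, Subtype.ext ?_⟩)
    · rw [Subgroup.mul_mem_iff_of_index_two S.hidx]
      exact iff_of_false hm S.mate.notMem
    · show r * d * (z : X) * (r * d)⁻¹ = _
      rw [← hr, mul_assoc r d, S.dz.eq]
      group

theorem card_cent (hF : IsOfLargeFischerTypeAt z Q) :
    Nat.card ↥(Subgroup.centralizer ({(z : X)} : Set X)) ≤ 2 * 160526499840 := by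
  set Z : Subgroup X := Subgroup.centralizer ({(z : X)} : Set X)
  have h1 := (G₀.subgroupOf Z).card_mul_index
  have h2 : (G₀.subgroupOf Z).index ≤ 2 := by
    have := Subgroup.relIndex_le_of_le_right (H := G₀) (le_top : Z ≤ ⊤)
      (by rw [Subgroup.relIndex_top_right, S.hidx]; norm_num)
    rwa [Subgroup.relIndex_top_right, S.hidx] at this
  have h3 : Nat.card (G₀.subgroupOf Z) ≤ Nat.card (Subgroup.centralizer ({z} : Set G₀)) := by
    refine Nat.card_le_card_of_injective
      (fun x => ⟨⟨((x : Z) : X), x.2⟩, Subgroup.mem_centralizer_singleton_iff.2 (Subtype.ext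
        (Subgroup.mem_centralizer_singleton_iff.1 (x : Z).2 :))⟩) fun a b h => ?_
    exact Subtype.ext (Subtype.ext (congrArg (fun w : Subgroup.centralizer ({z} : Set G₀) =>
      ((w : G₀) : X)) h :))
  rw [H16.Fi24.card_centralizer_z hF] at h3
  rw [← h1]
  exact (Nat.mul_le_mul h3 h2).trans (by norm_num)

end Input

/-- Charts are carried by conjugation. -/
theorem chart_conj {D : Set X} (hD : ∀ g : X, ∀ x ∈ D, g * x * g⁻¹ ∈ D) {d : X} (h : Chart D d)
    (g : X) : Chart D (g * d * g⁻¹) := by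
  obtain ⟨Y, T, hdY, hcom, hgen, hcls, hprim, htyp, hperp⟩ := h.model
  let Y' : Subgroup X := Y.map (MulAut.conj g).toMonoidHom
  let e : Y ≃* Y' := Y.equivMapOfInjective _ (MulAut.conj g).injective
  have he : ∀ y : Y, ((e y : Y') : X) = g * (y : X) * g⁻¹ := fun y => rfl
  have hback : ∀ w : X, g⁻¹ * w * g ∈ Y → w ∈ Y' := fun w hw =>
    ⟨g⁻¹ * w * g, hw, by simp [mul_assoc]⟩
  refine ⟨Y', e '' T, ?_, ?_, ?_, H65.Fischer.class_map e hcls, H65.Fischer.prim_image e hprim,
    H98.Fischer.typeM23_map e htyp, ?_⟩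
  · rintro ⟨w, hw, e'⟩
    exact hdY ((MulAut.conj g).injective e' ▸ hw)
  · intro y
    obtain ⟨w, rfl⟩ := e.surjective y
    rw [he]
    exact (conj_commute_iff g d (w : X)).2 (hcom w)
  · intro w hw
    have hw' : Commute d (g⁻¹ * w * g) := by
      have := hw.map (MulAut.conj g⁻¹).toMonoidHom
      simpa [mul_assoc] using this
    refine (hgen _ hw').imp (hback w) fun h' => hback _ ?_
    simpa [mul_assoc] using h'
  · ext x
    constructor
    · intro hx
      have hx' : g⁻¹ * x * g ∈ perp D d := by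
        have := perp_conj hD g⁻¹ hx
        simpa [mul_assoc] using this
      rw [hperp] at hx'
      obtain ⟨t, ht, htx⟩ := hx'
      refine ⟨e t, ⟨t, ht, rfl⟩, ?_⟩
      have htx' : d * (t : X) = g⁻¹ * x * g := htx
      show g * d * g⁻¹ * (e t : X) = x
      rw [he]
      calc g * d * g⁻¹ * (g * (t : X) * g⁻¹) = g * (d * (t : X)) * g⁻¹ := by group
        _ = x := by rw [htx']; group
    · rintro ⟨_, ⟨t, ht, rfl⟩, rfl⟩
      have : d * (t : X) ∈ perp D d := hperp ▸ ⟨t, ht, rfl⟩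
      show g * d * g⁻¹ * (e t : X) ∈ perp D (g * d * g⁻¹)
      rw [he, show g * d * g⁻¹ * (g * (t : X) * g⁻¹) = g * (d * (t : X)) * g⁻¹ by group]
      exact perp_conj hD g this

/-- The class with its charts. -/
theorem chartStmt : ChartStmt.{u} := by
  intro X _ _ G₀ hidx z Q _ hF hcentral hFX
  obtain ⟨C, d, S⟩ := exists_input hidx hF hcentral hFX
  have hconj : ∀ g : X, ∀ x ∈ conjugatesOf d, g * x * g⁻¹ ∈ conjugatesOf d :=
    fun g x hx => (hx : IsConj d x).trans (isConj_iff.2 ⟨g, rfl⟩)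
  refine ⟨conjugatesOf d, ⟨fun x hx => ?_, hconj, fun x hx y hy => ?_, fun x hx => ?_,
    fun a ha b hb x hx y hy he => S.pair_uniq ha hb hx hy he⟩,
    ⟨fun x hx => S.outer hx, z.2, ?_, ⟨d, IsConj.refl d, S.dz⟩,
      fun x hx y hy => S.notPair hF hx hy, S.card_cent hF⟩⟩
  · obtain ⟨g, rfl⟩ := isConj_iff.1 (hx : IsConj d x)
    rw [show g * d * g⁻¹ = MulAut.conj g d from rfl, MulEquiv.orderOf_eq]
    exact orderOf_eq_prime (by rw [pow_two]; exact S.dd)
      (fun e => S.mate.notMem (e ▸ one_mem _))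
  · exact (hx : IsConj d x).symm.trans hy
  · obtain ⟨g, rfl⟩ := isConj_iff.1 (hx : IsConj d x)
    exact chart_conj hconj S.chart g
  · rw [Subgroup.orderOf_coe]; exact hF.1.1

end H71.Big24
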