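/-
With more than 1620 common partners at distance two, a component has diameter two and is a class of
3-transpositions generating a group of type M(24).
-/
import Cfsg.Agent.H71.Big24.Local
import Cfsg.Agent.H20.BigBound.Local
import Cfsg.Agent.H72.Conn.Component
import Cfsg.Agent.H73.TT.Prim
import Cfsg.Agent.H98.Fischer.TypeMap
import Cfsg.Agent.H71.Fischer.MTwoFour

set_option autoImplicit false
set_option linter.unusedSectionVars false

namespace H71.Big24

open Cfsg H99 H65.Fischer
open H5.TT.Fac (Down qD)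
open H72.Conn (Near)

universe u v

variable {X : Type u} [Group X] [Finite X] {D : Set X} (h : Base D)
include h

theorem sq_one_of {r : X} (hr : r ∈ D) : r * r = 1 := by
  rw [← pow_two, ← h.ord r hr, pow_orderOf_eq_one]

theorem inv_of {r : X} (hr : r ∈ D) : r⁻¹ = r := inv_eq_of_mul_eq_one_right (sq_one_of h hr)

/-- The partners of a member. -/
theorem srg_perp {r : X} (hr : r ∈ D) : IsSRG (perp D r) 31671 3510 693 351 := by
  obtain ⟨Y, T, m⟩ := (h.chart r hr).get
  have hcc : ∀ s t : ↥Y, Commute (r * (s : X)) (r * (t : X)) ↔ Commute s t := by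
    refine fun s t => ⟨fun hc => ?_, m.mul_mem_comm⟩
    have e : ∀ u : ↥Y, Commute r⁻¹ (r * (u : X)) := fun u =>
      ((Commute.refl r).mul_right (m.comm u)).inv_left
    have h1 : Commute (r⁻¹ * (r * (s : X))) (r⁻¹ * (r * (t : X))) :=
      ((Commute.refl r⁻¹).mul_right (e t)).mul_left ((e s).symm.mul_right hc)
    rw [inv_mul_cancel_left, inv_mul_cancel_left] at h1
    exact Subtype.ext h1
  refine srg_transfer (fun x hx => (m.exists_eq hx).choose)
    (fun x hx => (m.exists_eq hx).choose_spec.1) (fun t ht => ?_) (fun x hx y hy e => ?_)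
    (fun x hx y hy => ?_) m.good.srg
  · exact ⟨_, m.mem ht, Subtype.ext (mul_left_cancel (m.exists_eq (m.mem ht)).choose_spec.2)⟩
  · rw [← (m.exists_eq hx).choose_spec.2, ← (m.exists_eq hy).choose_spec.2, e]
  · conv_rhs => rw [← (m.exists_eq hx).choose_spec.2, ← (m.exists_eq hy).choose_spec.2]
    exact (hcc _ _).symm

variable (hμ : BigMu D)
include hμ

/-- The step behind diameter two. -/
theorem near_step {a y e : X} (ha : a ∈ D) (hay : Near D a y) (he : e ∈ perp D y) :
    Near D a e := by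
  classical
  by_cases hae : Commute a e
  · by_cases h' : e = a
    · exact Or.inl h'
    · exact Or.inr (Or.inl ⟨he.1, h', hae⟩)
  have hy : y ∈ D := hay.mem ha
  by_cases hdy : Commute a y
  · by_cases h' : y = a
    · exact Or.inr (Or.inl (h' ▸ he))
    · exact Or.inr (Or.inr ⟨y, ⟨hy, h', hdy⟩, he⟩)
  obtain ⟨x, hx, hyx⟩ : ∃ x ∈ perp D a, y ∈ perp D x := by
    rcases hay with rfl | h' | h'
    · exact absurd (Commute.refl _) hdy
    · exact absurd h'.2.2 hdy
    · exact h'
  by_cases hr : ∃ r ∈ perp D a ∩ perp D y, Commute r e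
  · obtain ⟨r, hr, hre⟩ := hr
    by_cases h' : e = r
    · exact absurd (h' ▸ hr.1.2.2) hae
    · exact Or.inr (Or.inr ⟨r, hr.1, he.1, h', hre⟩)
  push Not at hr
  exfalso
  set E := perp D y with hE
  set S := perp D a ∩ E with hSdef
  have hbig : 1620 < S.ncard := hμ a ha y hy hdy ⟨x, hx, perp_mem_symm hx.1 hyx⟩
  have hT : IsThreeTranspositionSet E := H20.BigBound.tt_perp h hy
  have hei := inv_of h he.1
  set φ : X → X := fun r => e * r * e⁻¹ with hφ
  have hinj : Function.Injective φ := fun r r' hrr => mul_left_cancel (mul_right_cancel hrr)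
  have hφE : ∀ r ∈ E, φ r ∈ E := fun r hr' => by
    have := perp_conj h.conj e hr'
    rwa [show e * y * e⁻¹ = y by rw [he.2.2.symm.eq, mul_inv_cancel_right]] at this
  have hbraid : ∀ r ∈ S, φ r = r * e * r := fun r hr' => by
    show e * r * e⁻¹ = r * e * r
    rw [hei]
    exact tt_braid hT he hr'.2 fun hc => hr r hr' hc.symm
  have hclosed : ∀ r ∈ S, ∀ r' ∈ S, r * r' * r ∈ S := fun r hr' r' hr'' => by
    have hri := inv_of h hr'.2.1
    have h1 := perp_conj h.conj r hr''.1
    have h2 := perp_conj h.conj r hr''.2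
    rw [show r * a * r⁻¹ = a by rw [hr'.1.2.2.symm.eq, mul_inv_cancel_right], hri] at h1
    rw [show r * y * r⁻¹ = y by rw [hr'.2.2.2.symm.eq, mul_inv_cancel_right], hri] at h2
    exact ⟨h1, h2⟩
  have hnoSU : ∀ r ∈ S, ∀ t ∈ S, ¬ Commute r (φ t) := by
    intro r hr' t ht hc
    rw [hbraid t ht] at hc
    have h1 := hc.map (MulAut.conj t).toMonoidHom
    have hti := inv_of h ht.2.1
    simp only [MulEquiv.coe_toMonoidHom, MulAut.conj_apply, hti] at h1
    rw [show t * (t * e * t) * t = (t * t) * e * (t * t) by group, sq_one_of h ht.2.1, one_mul,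
      mul_one] at h1
    exact hr _ (hclosed t ht r hr') h1
  have hdeg0 : ∀ r ∈ S, (S ∩ perp E r).ncard = 351 := fun r hr' => by
    have h1 := (srg_perp h hr'.2.1).nonadj a (perp_mem_symm ha hr'.1) y (perp_mem_symm hy hr'.2) hdy
    rw [perp_perp, perp_perp] at h1
    rw [← h1, hSdef, hE, perp_perp]
    congr 1
    ext z
    simp only [Set.mem_inter_iff]
    tauto
  set P := S ∪ φ '' S with hP
  have hPE : P ⊆ E := by
    rintro v (hv | ⟨r, hr', rfl⟩)
    exacts [hv.2, hφE r hr'.2]
  have hdeg : ∀ v ∈ P, (P ∩ perp E v).ncard = 351 := by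
    rintro v (hv | ⟨r, hr', rfl⟩)
    · rw [← hdeg0 v hv]
      congr 1
      ext w
      refine ⟨fun hw => ⟨hw.1.resolve_right ?_, hw.2⟩, fun hw => ⟨Or.inl hw.1, hw.2⟩⟩
      rintro ⟨t, ht, rfl⟩
      exact hnoSU v hv t ht hw.2.2.2
    · rw [← hdeg0 r hr', ← Set.ncard_image_of_injective (S ∩ perp E r) hinj]
      congr 1
      ext w
      constructor
      · rintro ⟨hw | ⟨t, ht, rfl⟩, hw2⟩
        · exact absurd hw2.2.2.symm (hnoSU w hw r hr')
        · exact ⟨t, ⟨ht, ht.2, fun e' => hw2.2.1 (by rw [e']), (conj_commute_iff e r t).1 hw2.2.2⟩,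
            rfl⟩
      · rintro ⟨t, ⟨ht, -, hne, hc⟩, rfl⟩
        exact ⟨Or.inr ⟨t, ht, rfl⟩, hφE t ht.2, hinj.ne hne, (conj_commute_iff e r t).2 hc⟩
  have hq := ((srg_perp h hy).quad (by norm_num) (r := -9) (s := 351) (by norm_num) (by norm_num) P ∅
    hPE (Set.empty_subset _) (Set.disjoint_empty _) 1 0 351 0 0 0 hdeg
    (fun w _ => by simp) (fun w hw => absurd hw (Set.notMem_empty w))
    (fun w hw => absurd hw (Set.notMem_empty w))).1
  simp only [Set.ncard_empty, Nat.cast_zero, mul_zero, add_zero] at hq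
  have hPc : P.ncard = 2 * S.ncard := by
    rw [hP, Set.ncard_union_eq (Set.disjoint_left.2 fun v hv hv' => by
        obtain ⟨t, ht, rfl⟩ := hv'
        exact hnoSU _ hv t ht (Commute.refl _)) (Set.toFinite _) (Set.toFinite _),
      Set.ncard_image_of_injective _ hinj]
    ring
  have hge : (3241 : ℝ) ≤ (P.ncard : ℝ) := by exact_mod_cast (by omega : 3241 ≤ P.ncard)
  push_cast at hq
  nlinarith

theorem near_trans {a y e : X} (ha : a ∈ D) (h1 : Near D a y) (h2 : Near D y e) : Near D a e := by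
  rcases h2 with rfl | h2 | ⟨x, hx, h2⟩
  · exact h1
  · exact near_step h hμ ha h1 h2
  · exact near_step h hμ ha (near_step h hμ ha h1 hx) h2

omit hμ in
theorem near_conj {a b : X} (g : X) (hn : Near D a b) : Near D (g * a * g⁻¹) (g * b * g⁻¹) := by
  rcases hn with rfl | hn | ⟨x, hx, hn⟩
  · exact Or.inl rfl
  · exact Or.inr (Or.inl (perp_conj h.conj g hn))
  · exact Or.inr (Or.inr ⟨_, perp_conj h.conj g hx, perp_conj h.conj g hn⟩)

/-- The elements keeping the component of `d`. -/
def keep {d : X} (hd : d ∈ D) : Subgroup X where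
  carrier := {g | Near D d (g * d * g⁻¹)}
  one_mem' := Or.inl (by simp)
  mul_mem' {a b} (ha : Near D d _) (hb : Near D d _) := by
    show Near D d _
    have := near_trans h hμ hd ha (near_conj h a hb)
    rwa [show a * b * d * (a * b)⁻¹ = a * (b * d * b⁻¹) * a⁻¹ by group]
  inv_mem' {a} (ha : Near D d _) := by
    show Near D d _
    have := (near_conj h a⁻¹ ha).symm (h.conj _ d hd)
    rwa [show a⁻¹ * (a * d * a⁻¹) * a⁻¹⁻¹ = d by group] at this

variable {d : X} (hd : d ∈ D)
include hd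

theorem le_keep : Subgroup.closure {x | Near D d x} ≤ keep h hμ hd := by
  rw [Subgroup.closure_le]
  intro c hc
  have h1 := near_conj h c ((hc : Near D d c).symm hd)
  rw [mul_inv_cancel_right] at h1
  exact near_trans h hμ hd hc h1

theorem conj_near {g x : X} (hg : g ∈ Subgroup.closure {x | Near D d x}) (hx : Near D d x) :
    Near D d (g * x * g⁻¹) :=
  near_trans h hμ hd (le_keep h hμ hd hg) (near_conj h g hx)

/-- Two commuting members of the component are conjugate in the group it generates. -/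
theorem conj_of_perp {a b : X} (ha : Near D d a) (hb : b ∈ perp D a) :
    ∃ g ∈ Subgroup.closure {x | Near D d x}, g * a * g⁻¹ = b := by
  classical
  have haD := ha.mem hd
  have hbn : Near D d b := near_step h hμ hd ha hb
  obtain ⟨r, hr⟩ := Set.nonempty_of_ncard_ne_zero (s := perp (perp D a) b)
    (by rw [(srg_perp h haD).deg b hb]; norm_num)
  have hrn : Near D d r := near_step h hμ hd ha hr.1
  have har : a ∈ perp D r := perp_mem_symm haD hr.1
  have hbr : b ∈ perp D r := perp_mem_symm hb.1 ⟨hr.1.1, hr.2⟩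
  have hs := srg_perp h hr.1.1
  obtain ⟨u, hu, hun⟩ := Set.exists_mem_notMem_of_ncard_lt_ncard
    (s := insert a (perp (perp D r) a) ∪ insert b (perp (perp D r) b)) (t := perp D r) (by
      have h1 := Set.ncard_insert_le a (perp (perp D r) a)
      have h2 := Set.ncard_insert_le b (perp (perp D r) b)
      have h3 := Set.ncard_union_le (insert a (perp (perp D r) a)) (insert b (perp (perp D r) b))
      rw [hs.deg a har] at h1
      rw [hs.deg b hbr] at h2
      rw [hs.card]
      omega) (Set.toFinite _)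
  simp only [Set.mem_union, Set.mem_insert_iff, not_or] at hun
  have hT := H20.BigBound.tt_perp h hr.1.1
  have hun' : Near D d u := near_step h hμ hd hrn hu
  have key : ∀ p ∈ perp D r, ∀ q ∈ perp D r, ¬ Commute p q → p * q * p * (p * q)⁻¹ = q := by
    intro p hp q hq hn
    rw [mul_inv_rev, tt_inv hT hp, tt_inv hT hq,
      show p * q * p * (q * p) = p * (q * p * q) * p by group, ← tt_braid hT hp hq hn,
      show p * (p * q * p) * p = (p * p) * q * (p * p) by group, tt_mul_self hT hp, one_mul, mul_one]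
  have e1 := key a har u hu fun hc => hun.1.2 ⟨hu, hun.1.1, hc⟩
  have e2 := key u hu b hbr fun hc => hun.2.2 ⟨hu, hun.2.1, hc.symm⟩
  refine ⟨u * b * (a * u), mul_mem (mul_mem (Subgroup.subset_closure hun')
    (Subgroup.subset_closure hbn)) (mul_mem (Subgroup.subset_closure ha)
    (Subgroup.subset_closure hun')), ?_⟩
  calc u * b * (a * u) * a * (u * b * (a * u))⁻¹
      = u * b * (a * u * a * (a * u)⁻¹) * (u * b)⁻¹ := by group
    _ = b := by rw [e1, e2]

theorem exists_mover {x : X} (hx : Near D d x) :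
    ∃ g ∈ Subgroup.closure {x | Near D d x}, g * d * g⁻¹ = x := by
  rcases hx with rfl | hx | ⟨v, hv, hx⟩
  · exact ⟨1, one_mem _, by group⟩
  · exact conj_of_perp h hμ hd (Or.inl rfl) hx
  · obtain ⟨g, hg, e⟩ := conj_of_perp h hμ hd (Or.inl rfl) hv
    obtain ⟨k, hk, e'⟩ := conj_of_perp h hμ hd (Or.inr (Or.inl hv)) hx
    refine ⟨k * g, mul_mem hk hg, ?_⟩
    rw [← e', ← e]
    group

/-- The centraliser of `d` lies in the group generated by the component. -/
theorem cent_le {Y : Subgroup X} {T : Set ↥Y} (m : Model D d Y T) :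
    (∀ y : ↥Y, (y : X) ∈ Subgroup.closure {x | Near D d x}) ∧
      ∀ g, Commute d g → g ∈ Subgroup.closure {x | Near D d x} := by
  set M := Subgroup.closure {x | Near D d x}
  have hdM : d ∈ M := Subgroup.subset_closure (Or.inl rfl)
  have hY : ∀ y : ↥Y, (y : X) ∈ M := by
    intro y
    have hle : Subgroup.closure T ≤ M.subgroupOf Y := by
      rw [Subgroup.closure_le]
      intro t ht
      show (t : X) ∈ M
      have h1 : d * (t : X) ∈ M := Subgroup.subset_closure (Or.inr (Or.inl (m.mem ht)))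
      have h2 := mul_mem hdM h1
      rwa [← mul_assoc, sq_one_of h hd, one_mul] at h2
    rw [m.cls.2.2] at hle
    exact hle (Subgroup.mem_top y)
  refine ⟨hY, fun g hg => ?_⟩
  rcases m.cover g hg with h1 | h1
  · exact hY ⟨g, h1⟩
  · have := mul_mem hdM (hY ⟨_, h1⟩)
    rwa [← mul_assoc, sq_one_of h hd, one_mul] at this

/-- The group generated by a component. -/
theorem comp_of : ∃ (M : Subgroup X) (C : Set X), d ∈ C ∧ Comp D M C := by
  classical
  obtain ⟨Y, T, m⟩ := (h.chart d hd).get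
  set C : Set X := {x | Near D d x} with hC
  set M := Subgroup.closure C with hM
  have hdC : d ∈ C := Or.inl rfl
  have hCM : C ⊆ (M : Set X) := Subgroup.subset_closure
  have hsub : C ⊆ D := fun x hx => hx.mem hd
  have hperpC : ∀ x ∈ C, perp D x ⊆ C := fun x hx y hy => near_step h hμ hd hx hy
  have hmove : ∀ g : X, ∀ x ∈ C, g * x * g⁻¹ ∈ C → g ∈ M := by
    intro g x hx hgx
    obtain ⟨a, ha, ea⟩ := exists_mover h hμ hd hx
    obtain ⟨b, hb, eb⟩ := exists_mover h hμ hd hgx
    have hk : Commute d (b⁻¹ * g * a) := by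
      refine (mul_inv_eq_iff_eq_mul.1 ?_ : (b⁻¹ * g * a) * d = d * (b⁻¹ * g * a)).symm
      calc b⁻¹ * g * a * d * (b⁻¹ * g * a)⁻¹ = b⁻¹ * (g * (a * d * a⁻¹) * g⁻¹) * b := by group
        _ = d := by rw [ea, ← eb]; group
    have := mul_mem (mul_mem hb ((cent_le h hμ hd m).2 _ hk)) (inv_mem ha)
    rwa [show b * (b⁻¹ * g * a) * a⁻¹ = g by group] at this
  set DM : Set ↥M := (↑) ⁻¹' C with hDM
  set d' : ↥M := ⟨d, hCM hdC⟩ with hd'
  have hd'M : d' ∈ DM := hdC
  have hperp : ∀ x ∈ DM, ∀ y : ↥M, y ∈ perp DM x ↔ (y : X) ∈ perp D (x : X) := fun x hx y =>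
    ⟨fun hy => ⟨hsub hy.1, fun e => hy.2.1 (Subtype.ext e), hy.2.2.map M.subtype⟩,
      fun hy => ⟨hperpC _ hx hy, fun e => hy.2.1 (congrArg Subtype.val e), Subtype.ext hy.2.2.eq⟩⟩
  have hpC : ∀ x ∈ C, ∀ y ∈ C, ¬ Commute x y → ∃ r, r ∈ perp D x ∧ r ∈ perp D y := by
    intro x hx y hy hxy
    rcases near_trans h hμ (hsub hx) ((hx : Near D d x).symm hd) hy with rfl | h' | ⟨r, h1, h2⟩
    · exact absurd (Commute.refl _) hxy
    · exact absurd h'.2.2 hxy
    · exact ⟨r, h1, perp_mem_symm h1.1 h2⟩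
  -- the class
  have hT : IsThreeTranspositionSet DM := by
    refine ⟨fun x hx => by rw [← Subgroup.orderOf_coe]; exact h.ord _ (hsub hx), fun x hx y hy => ?_⟩
    by_cases hc : Commute (x : X) (y : X)
    · refine Or.inl (Subtype.ext ?_)
      rw [Subgroup.coe_pow, Subgroup.coe_mul, Subgroup.coe_one, hc.mul_pow, pow_two, pow_two,
        sq_one_of h (hsub hx), sq_one_of h (hsub hy), mul_one]
    · obtain ⟨r, hrx, hry⟩ := hpC _ hx _ hy hc
      refine Or.inr (Subtype.ext ?_)
      rw [Subgroup.coe_pow, Subgroup.coe_mul, Subgroup.coe_one]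
      exact tt_cube_of_not_commute (H20.BigBound.tt_perp h hrx.1) (perp_mem_symm (hsub hx) hrx)
        (perp_mem_symm (hsub hy) hry) hc
  have hcls : IsThreeTranspositionClass DM := by
    refine ⟨hT, ⟨d', hd'M, ?_⟩, Subgroup.closure_closure_coe_preimage⟩
    ext x
    constructor
    · intro hx
      obtain ⟨g, hg, e⟩ := exists_mover h hμ hd (x := (x : X)) hx
      exact isConj_iff.2 ⟨⟨g, hg⟩, Subtype.ext e⟩
    · intro hx
      obtain ⟨g, rfl⟩ := isConj_iff.1 hx
      exact conj_near h hμ hd g.2 (Or.inl rfl)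
  obtain ⟨hY, -⟩ := cent_le h hμ hd m
  have hZY : ∀ y : ↥Y, (∀ w : ↥Y, Commute y w) → y = 1 := fun y hy => by
    have : y ∈ Subgroup.center ↥Y := Subgroup.mem_center_iff.2 fun w => (hy w).eq.symm
    rwa [m.typ.1, Subgroup.mem_bot] at this
  obtain ⟨t₁, ht₁⟩ := Set.nonempty_of_ncard_ne_zero (s := perp D d)
    (by rw [(srg_perp h hd).card]; norm_num)
  -- the centre
  have hcen : Subgroup.center ↥M = ⊥ := by
    refine (Subgroup.eq_bot_iff_forall _).2 fun c hc => ?_
    have hcc : ∀ g ∈ M, Commute g (c : X) := fun g hg =>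
      congrArg Subtype.val (Subgroup.mem_center_iff.1 hc ⟨g, hg⟩)
    have key : (c : X) = 1 ∨ (c : X) = d := by
      rcases m.cover _ (hcc d (hCM hdC)) with h1 | h1
      · exact Or.inl (congrArg Subtype.val (hZY ⟨_, h1⟩ fun w =>
          Subtype.ext (hcc _ (hY w)).eq.symm))
      · refine Or.inr ?_
        have h2 : d * (c : X) = 1 := congrArg Subtype.val (hZY ⟨_, h1⟩ fun w =>
          Subtype.ext ((m.comm w).mul_left (hcc _ (hY w)).symm).eq)
        rw [← inv_eq_of_mul_eq_one_right h2, inv_of h hd]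
    rcases key with h1 | h1
    · exact Subtype.ext h1
    · exfalso
      obtain ⟨g, hg, e⟩ := exists_mover h hμ hd (x := t₁) (Or.inr (Or.inl ht₁))
      refine ht₁.2.1 ?_
      rw [← e, (h1 ▸ hcc g hg : Commute g d).eq, mul_inv_cancel_right]
  -- the standing properties
  have hcore : H73.TT.Core DM := by
    refine ⟨hcls, hcen, fun a ha b hb hab => ?_, fun a ha b hb hab => ?_, ?_⟩
    · by_contra hne
      have hc : Commute (a : X) (b : X) :=
        (((hab a ha).2 (Commute.refl a)).symm).map M.subtype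
      have hbp : (b : X) ∈ perp D (a : X) := ⟨hsub hb, fun e => hne (Subtype.ext e), hc⟩
      obtain ⟨w, hw, hwn⟩ := Set.exists_mem_notMem_of_ncard_lt_ncard
        (s := insert (b : X) (perp (perp D (a : X)) b)) (t := perp D (a : X)) (by
          have h1 := Set.ncard_insert_le (b : X) (perp (perp D (a : X)) b)
          rw [(srg_perp h (hsub ha)).deg _ hbp] at h1
          rw [(srg_perp h (hsub ha)).card]
          omega) (Set.toFinite _)
      simp only [Set.mem_insert_iff, not_or] at hwn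
      have hwC : w ∈ C := hperpC _ ha hw
      have h2 := ((hab ⟨w, hCM hwC⟩ hwC).2 (Subtype.ext hw.2.2.eq)).map M.subtype
      exact hwn.2 ⟨hw, hwn.1, h2⟩
    · by_contra hne
      have heq : ∀ y ∈ C, (y ∈ perp D (a : X) ↔ y ∈ perp D (b : X)) := fun y hy => by
        have h1 : ((⟨y, hCM hy⟩ : ↥M) ∈ perp DM a ↔ (⟨y, hCM hy⟩ : ↥M) ∈ perp DM b) :=
          Set.ext_iff.1 hab _
        rwa [hperp a ha, hperp b hb] at h1
      have hnc : ¬ Commute (a : X) (b : X) := fun hc =>
        ((heq _ hb).1 ⟨hsub hb, fun e => hne (Subtype.ext e), hc⟩).2.1 rfl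
      obtain ⟨r, hr⟩ := Set.nonempty_of_ncard_ne_zero (s := perp D (a : X))
        (by rw [(srg_perp h (hsub ha)).card]; norm_num)
      have hrC := hperpC _ ha hr
      have har := perp_mem_symm (hsub ha) hr
      have hbr := perp_mem_symm (hsub hb) ((heq r hrC).1 hr)
      have h1 := (srg_perp h hr.1).nonadj _ har _ hbr hnc
      have h2 : perp (perp D r) (a : X) ∩ perp (perp D r) (b : X) = perp (perp D r) (a : X) := by
        refine Set.inter_eq_left.2 fun v hv => ?_
        exact ⟨hv.1, ((heq v (hperpC r hrC hv.1)).1 ⟨hv.1.1, hv.2⟩).2⟩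
      rw [h2, (srg_perp h hr.1).deg _ har] at h1
      omega
    · obtain ⟨b, hb, hbn⟩ := Set.exists_mem_notMem_of_ncard_lt_ncard
        (s := insert t₁ (perp (perp D d) t₁)) (t := perp D d) (by
          have h1 := Set.ncard_insert_le t₁ (perp (perp D d) t₁)
          rw [(srg_perp h hd).deg _ ht₁] at h1
          rw [(srg_perp h hd).card]
          omega) (Set.toFinite _)
      simp only [Set.mem_insert_iff, not_or] at hbn
      refine ⟨⟨t₁, hCM (hperpC d hdC ht₁)⟩, hperpC d hdC ht₁, ⟨b, hCM (hperpC d hdC hb)⟩,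
        hperpC d hdC hb, d', hd'M, fun hc => hbn.2 ⟨hb, hbn.1, hc.map M.subtype⟩,
        fun e => ht₁.2.1 (congrArg Subtype.val e).symm, fun e => hb.2.1 (congrArg Subtype.val e).symm,
        Subtype.ext ht₁.2.2.symm.eq, Subtype.ext hb.2.2.symm.eq⟩
  have hdia : H73.TT.Dia DM := fun a ha b hb hab => by
    obtain ⟨r, hra, hrb⟩ := hpC _ ha _ hb fun hc => hab (Subtype.ext hc.eq)
    exact ⟨⟨r, hCM (hperpC _ ha hra)⟩, hperpC _ ha hra, Subtype.ext hra.2.2.eq,
      Subtype.ext hrb.2.2.eq⟩
  have hprim : IsPrimitiveUnderConj DM := H73.TT.primitive_of_dia hcore hdia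
  -- one step down
  set L := Subgroup.closure (perp DM d') with hL
  have hLd : ∀ l : ↥L, Commute d ((l : ↥M) : X) := by
    intro l
    have hle : L ≤ Subgroup.centralizer ({d'} : Set ↥M) := by
      rw [hL, Subgroup.closure_le]
      exact fun x hx => Subgroup.mem_centralizer_singleton_iff.2 hx.2.2.eq.symm
    exact congrArg Subtype.val (Subgroup.mem_centralizer_singleton_iff.1 (hle l.2)).symm
  have hex : ∀ l : ↥L, ∃ y : ↥Y, ((l : ↥M) : X) = y ∨ ((l : ↥M) : X) = d * (y : X) := fun l => by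
    rcases m.cover _ (hLd l) with h1 | h1
    · exact ⟨⟨_, h1⟩, Or.inl rfl⟩
    · exact ⟨⟨_, h1⟩, Or.inr (by rw [← mul_assoc, sq_one_of h hd, one_mul])⟩
  choose π hπ using hex
  have huniq : ∀ (l : ↥L) (y : ↥Y), (((l : ↥M) : X) = y ∨ ((l : ↥M) : X) = d * (y : X)) →
      π l = y := by
    intro l y hy
    have hn : ∀ a b : ↥Y, (a : X) ≠ d * (b : X) := fun a b e =>
      m.notMem (by simpa [e] using mul_mem a.2 (inv_mem b.2))
    rcases hπ l with e | e <;> rcases hy with e' | e'
    · exact Subtype.ext (e.symm.trans e')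
    · exact absurd (e.symm.trans e') (hn _ _)
    · exact absurd (e'.symm.trans e) (hn _ _)
    · exact Subtype.ext (mul_left_cancel (e.symm.trans e'))
  have hdd : ∀ a b : ↥Y, d * (a : X) * (d * (b : X)) = (a : X) * (b : X) := fun a b => by
    rw [mul_assoc, ← mul_assoc (a : X), ← (m.comm a).eq, mul_assoc d (a : X), ← mul_assoc,
      sq_one_of h hd, one_mul]
  let π' : ↥L →* ↥Y := MonoidHom.mk' π fun a b => huniq _ _ (by
    rw [Subgroup.coe_mul, Subgroup.coe_mul, Subgroup.coe_mul]
    rcases hπ a with ea | ea <;> rcases hπ b with eb | eb <;> rw [ea, eb]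
    · exact Or.inl rfl
    · exact Or.inr (by rw [← mul_assoc, ← (m.comm (π a)).eq, mul_assoc])
    · exact Or.inr (mul_assoc _ _ _)
    · exact Or.inl (hdd _ _))
  have hmemP : ∀ t ∈ T, ∃ l : ↥L, (l : ↥M) ∈ perp DM d' ∧ π' l = t := fun t ht => by
    have hm : (⟨d * (t : X), hCM (hperpC d hdC (m.mem ht))⟩ : ↥M) ∈ perp DM d' :=
      (hperp d' hd'M _).2 (m.mem ht)
    exact ⟨⟨_, Subgroup.subset_closure hm⟩, hm, huniq _ t (Or.inr rfl)⟩
  have hsurj : Function.Surjective π' := by
    rw [← MonoidHom.range_eq_top, eq_top_iff, ← m.cls.2.2, Subgroup.closure_le]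
    intro t ht
    obtain ⟨l, -, e⟩ := hmemP t ht
    exact ⟨l, e⟩
  have hker : Subgroup.center ↥L = π'.ker := by
    refine le_antisymm (fun c hc => ?_) (fun c hc => ?_)
    · refine MonoidHom.mem_ker.2 (hZY _ fun w => ?_)
      obtain ⟨l, rfl⟩ := hsurj w
      exact (Commute.map (show Commute l c from Subgroup.mem_center_iff.1 hc l) π').symm
    · refine Subgroup.mem_center_iff.2 fun l => Subtype.ext (Subtype.ext ?_)
      show ((l : ↥M) : X) * ((c : ↥M) : X) = ((c : ↥M) : X) * ((l : ↥M) : X)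
      have h1 : π c = 1 := MonoidHom.mem_ker.1 hc
      rcases hπ c with e | e <;> rw [e, h1, Subgroup.coe_one]
      · rw [mul_one, one_mul]
      · rw [mul_one]; exact (hLd l).eq.symm
  let ψ : Down DM d' ≃* ↥Y :=
    (QuotientGroup.quotientMulEquivOfEq hker).trans
      (QuotientGroup.quotientKerEquivOfSurjective π' hsurj)
  have himg : ψ '' qD DM d' = T := by
    ext t
    constructor
    · rintro ⟨-, ⟨l, hl, rfl⟩, rfl⟩
      obtain ⟨s, hs, e⟩ := m.exists_eq ((hperp d' hd'M _).1 hl)
      show π l ∈ T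
      rw [huniq l s (Or.inr e.symm)]
      exact hs
    · intro ht
      obtain ⟨l, hl, e⟩ := hmemP t ht
      exact ⟨_, ⟨l, hl, rfl⟩, e⟩
  have hqX : IsOfTypeM23 (Down DM d') (qD DM d') := by
    have := H98.Fischer.typeM23_map ψ.symm m.typ
    rwa [← himg, Set.image_image, Set.image_congr (g := id) (fun x _ => ψ.symm_apply_apply x),
      Set.image_id] at this
  have hqP : IsPrimitiveUnderConj (qD DM d') := by
    obtain ⟨h1, ⟨a, ha, b, hb, hab⟩, h3⟩ := m.prim
    have hmem : ∀ x, x ∈ qD DM d' ↔ ψ x ∈ T := fun x => by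
      rw [← himg, ψ.injective.mem_set_image]
    refine ⟨fun x hx y hy => ?_, ⟨ψ.symm a, (hmem _).2 (by simpa using ha), ψ.symm b,
      (hmem _).2 (by simpa using hb), fun e => hab (ψ.symm.injective e)⟩, fun B hB hblk => ?_⟩
    · obtain ⟨g, hg⟩ := h1 _ ((hmem x).1 hx) _ ((hmem y).1 hy)
      exact ⟨ψ.symm g, ψ.injective (by simpa using hg)⟩
    · rcases h3 (ψ '' B) (by rintro _ ⟨x, hx, rfl⟩; exact (hmem x).1 (hB hx)) (fun g => by
          have e : (fun x => g * x * g⁻¹) '' (ψ '' B) =
              ψ '' ((fun x => ψ.symm g * x * (ψ.symm g)⁻¹) '' B) := by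
            simp only [Set.image_image]
            exact Set.image_congr fun x _ => by simp
          rw [e]
          exact (hblk _).imp (fun e' => by rw [e']) fun e' => Set.disjoint_image_of_injective
            ψ.injective e') with hs | hs
      · exact Or.inl (Set.subsingleton_of_image ψ.injective B hs)
      · refine Or.inr ((Set.image_injective.2 ψ.injective) ?_)
        rw [hs, himg]
  have htyp : IsOfTypeM24 ↥M DM := H71.Fischer.typeM24_of_down24
    (H98.Fischer.Down24.mk' (class_toGroup hcls) hprim hcen hd'M hqP hqX)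
  exact ⟨M, C, hdC, hsub, hCM, hperpC, hmove, hcls, hprim, htyp⟩

end H71.Big24

namespace H71.Big24

universe u

theorem compStmt : CompStmt.{u} := fun h hμ _ hd => comp_of h hμ hd

end H71.Big24
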