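/-
Counting the fixed partners of a fixed member, and the conjugacy of pairs at distance two.
-/
import Cfsg.Agent.H71.Big24.Local
import Cfsg.Agent.H65.Fischer.Nested
import Cfsg.Agent.H5.TT.Triples

set_option autoImplicit false
set_option linter.unusedSectionVars false

namespace H71.Big24

open Cfsg H99 H65.Fischer
open H5.TT.Fac (Down qD im Desc)

universe u

section T

variable {G : Type*} [Group G] [Finite G] {T : Set G}

/-- Four commuting transpositions of a group of type M(23) have 51 further common partners. -/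
theorem m23_four (hD : IsThreeTranspositionGroup T) (hp : IsPrimitiveUnderConj T)
    (h : IsOfTypeM23 G T) {a b c x : G} (ha : a ∈ T) (hb : b ∈ perp T a) (hc : c ∈ perp T a)
    (hx : x ∈ perp T a) (hbc : c ≠ b ∧ Commute b c) (hbx : x ≠ b ∧ Commute b x)
    (hcx : x ≠ c ∧ Commute c x) :
    (perp T a ∩ perp T b ∩ perp T c ∩ perp T x).ncard = 51 := by
  obtain ⟨d, hd, hdesc, hpX, hX⟩ := m23_down hD hp h
  have hS := m22_setting (class_toGroup (H5.TT.Fac.qD_class hdesc)) hpX hX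
  have hcl := class_of_primitive hD hp
  have hconj : ∀ g : G, ∀ y ∈ T, g * y * g⁻¹ ∈ T := fun g y hy => class_conj_mem hcl g hy
  obtain ⟨g, hg⟩ := class_isConj hcl ha hd
  set φ : G → G := fun y => g * y * g⁻¹ with hφ
  have hφi : Function.Injective φ := fun y y' e => mul_left_cancel (mul_right_cancel e)
  have hmov : ∀ {y}, y ∈ perp T a → φ y ∈ perp T d := fun hy => hg ▸ perp_conj hconj g hy
  have hb' := hmov hb
  set E := perp (perp T d) (φ b) with hE
  have hsrg : IsSRG E 693 180 51 45 := by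
    refine srg_transfer (E' := perp (qD T d) (im hb')) (fun y hy => im (show y ∈ perp T d from hy.1))
      (fun y hy => ⟨H5.TT.Fac.im_mem hy.1, fun e => hy.2.1 (H5.TT.Fac.im_inj hdesc hy.1 hb' e),
        (H5.TT.Fac.im_commute hdesc hb' hy.1).2 hy.2.2⟩) ?_ ?_ ?_
      (hS.loc (im hb') (H5.TT.Fac.im_mem hb')).srg
    · intro q hq
      obtain ⟨y, hy, rfl⟩ := H5.TT.Fac.exists_of_mem hq.1
      exact ⟨y, ⟨hy, fun e => hq.2.1 (by subst e; rfl),
        (H5.TT.Fac.im_commute hdesc hb' hy).1 hq.2.2⟩, rfl⟩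
    · exact fun y hy y' hy' e => H5.TT.Fac.im_inj hdesc hy.1 hy'.1 e
    · exact fun y hy y' hy' => H5.TT.Fac.im_commute hdesc hy.1 hy'.1
  have hcE : φ c ∈ E := ⟨hmov hc, fun e => hbc.1 (hφi e), (conj_commute_iff g b c).2 hbc.2⟩
  have hxE : φ x ∈ E := ⟨hmov hx, fun e => hbx.1 (hφi e), (conj_commute_iff g b x).2 hbx.2⟩
  have h51 := hsrg.adj _ hcE _ hxE (fun e => hcx.1 (hφi e).symm)
    ((conj_commute_iff g c x).2 hcx.2)
  have key : φ '' (perp T a ∩ perp T b ∩ perp T c ∩ perp T x) = perp E (φ c) ∩ perp E (φ x) := by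
    have himg : ∀ y, φ '' perp T y = perp T (φ y) := fun y => conj_image_perp hconj g y
    rw [Set.image_inter hφi, Set.image_inter hφi, Set.image_inter hφi, himg, himg, himg, himg,
      show φ a = d from hg, hE, perp_perp, perp_perp]
    ext y
    simp only [Set.mem_inter_iff, perp, Set.mem_ofPred_eq]
    tauto
  rw [← h51, ← key, Set.ncard_image_of_injective _ hφi]

/-- The partners of three commuting transpositions that commute with their product. -/
theorem m23_three (hD : IsThreeTranspositionGroup T) (hp : IsPrimitiveUnderConj T)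
    (h : IsOfTypeM23 G T) {a b c : G} (h3 : H72.Conn.Cl3 T a b c) :
    {t | t ∈ T ∧ Commute t (a * b * c)} = {a, b, c} ∪ (perp T a ∩ perp T b ∩ perp T c) ∧
      (perp T a ∩ perp T b ∩ perp T c).ncard = 180 := by
  constructor
  · ext t
    constructor
    · rintro ⟨ht, hc⟩
      have hh := (H91.commute_triple_iff hD.1 h3.hx h3.hy h3.hw ht h3.xy h3.xw h3.yw h3.cxy h3.cxw
        h3.cyw).1 hc
      by_cases h1 : t = a
      · exact Or.inl (Or.inl h1)
      by_cases h2 : t = b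
      · exact Or.inl (Or.inr (Or.inl h2))
      by_cases h4 : t = c
      · exact Or.inl (Or.inr (Or.inr h4))
      exact Or.inr ⟨⟨⟨ht, h1, hh.1.symm⟩, ⟨ht, h2, hh.2.1.symm⟩⟩, ⟨ht, h4, hh.2.2.symm⟩⟩
    · rintro ((rfl | rfl | rfl) | ⟨⟨h1, h2⟩, h4⟩)
      · exact ⟨h3.hx, ((Commute.refl _).mul_right h3.cxy).mul_right h3.cxw⟩
      · exact ⟨h3.hy, (h3.cxy.symm.mul_right (Commute.refl _)).mul_right h3.cyw⟩
      · exact ⟨h3.hw, (h3.cxw.symm.mul_right h3.cyw.symm).mul_right (Commute.refl _)⟩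
      · exact ⟨h1.1, (h1.2.2.symm.mul_right h2.2.2.symm).mul_right h4.2.2.symm⟩
  · have hs := (m23_setting hD hp h).loc a h3.hx
    rw [← hs.srg.adj b ⟨h3.hy, h3.xy.symm, h3.cxy⟩ c ⟨h3.hw, h3.xw.symm, h3.cxw⟩ h3.yw h3.cyw,
      perp_perp, perp_perp]
    congr 1
    ext y
    simp only [Set.mem_inter_iff]
    tauto

end T

variable {X : Type u} [Group X] {D : Set X}

namespace Model

variable {d : X} {Y : Subgroup X} {T : Set ↥Y} (h : Model D d Y T)
include h

theorem comm_iff (hd : d * d = 1) {s t : ↥Y} :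
    Commute (d * (s : X)) (d * (t : X)) ↔ Commute s t := by
  refine ⟨fun hc => ?_, h.mul_mem_comm⟩
  have key : ∀ v : ↥Y, d * (d * (v : X)) = v := fun v => by rw [← mul_assoc, hd, one_mul]
  have hdd : ∀ v : ↥Y, Commute d (d * (v : X)) := fun v => (Commute.refl d).mul_right (h.comm v)
  have := ((Commute.refl d).mul_right (hdd t)).mul_left ((hdd s).symm.mul_right hc)
  rw [key, key] at this
  exact Subtype.ext this

omit h in
theorem mk_inj : Function.Injective fun t : ↥Y => d * (t : X) :=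
  fun _ _ e => Subtype.ext (mul_left_cancel e)

end Model

/-- At a fixed member: the chart, the triangle and the fixed partners. -/
theorem fixed_partners [Finite X] {z : X} (hB : Base D) (hF : Fixed D z) {d : X}
    (hd : d ∈ fix D z) : ∃ (Y : Subgroup X) (T : Set ↥Y) (a b c : ↥Y),
      Model D d Y T ∧ H72.Conn.Cl3 T a b c ∧
      perp D d ∩ fix D z =
        (fun t : ↥Y => d * (t : X)) '' ({a, b, c} ∪ (perp T a ∩ perp T b ∩ perp T c)) ∧
      (perp D d ∩ fix D z).ncard = 183 := by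
  obtain ⟨Y, T, h⟩ := (hB.chart d hd.1).get
  have hd2 : d * d = 1 := by rw [← pow_two, ← hB.ord d hd.1, pow_orderOf_eq_one]
  obtain ⟨a', b', c', h3, hz⟩ := hF.tetrad d hd
  obtain ⟨a, ha, rfl⟩ := h.exists_eq h3.hx
  obtain ⟨b, hb, rfl⟩ := h.exists_eq h3.hy
  obtain ⟨c, hc, rfl⟩ := h.exists_eq h3.hw
  have h3' : H72.Conn.Cl3 T a b c := ⟨ha, hb, hc, fun e => h3.xy (by rw [e]),
    fun e => h3.xw (by rw [e]), fun e => h3.yw (by rw [e]), (h.comm_iff hd2).1 h3.cxy,
    (h.comm_iff hd2).1 h3.cxw, (h.comm_iff hd2).1 h3.cyw⟩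
  have hz' : z = ((a * b * c : ↥Y) : X) := by
    have hda : (a : X) * d = d * a := (h.comm a).eq.symm
    have hdab : (a : X) * b * d = d * (a * b) := by
      rw [mul_assoc, ← (h.comm b).eq, ← mul_assoc, hda, mul_assoc]
    calc z = d * (d * (a : X) * (d * (b : X)) * (d * (c : X))) := hz
      _ = d * d * ((a : X) * d) * b * d * c := by group
      _ = d * ((a : X) * b * d) * c := by rw [hda, hd2, one_mul]; group
      _ = d * d * ((a : X) * b * c) := by rw [hdab]; group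
      _ = _ := by rw [hd2, one_mul, Subgroup.coe_mul, Subgroup.coe_mul]
  obtain ⟨hset, h180⟩ := m23_three h.group h.prim h.typ h3'
  have himg : perp D d ∩ fix D z =
      (fun t : ↥Y => d * (t : X)) '' {t | t ∈ T ∧ Commute t (a * b * c)} := by
    ext y
    constructor
    · rintro ⟨hy, -, hyz⟩
      obtain ⟨t, ht, rfl⟩ := h.exists_eq hy
      refine ⟨t, ⟨ht, Subtype.ext ?_⟩, rfl⟩
      have h1 := (h.comm (a * b * c)).mul_left (hz' ▸ hyz)
      rwa [← mul_assoc, hd2, one_mul] at h1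
    · rintro ⟨t, ⟨ht, htc⟩, rfl⟩
      refine ⟨h.mem ht, (h.mem ht).1, hz' ▸ (h.comm _).mul_left ?_⟩
      exact htc.map Y.subtype
  rw [hset] at himg
  refine ⟨Y, T, a, b, c, h, h3', himg, ?_⟩
  rw [himg, Set.ncard_image_of_injective _ Model.mk_inj, Set.ncard_union_eq ?_ (Set.toFinite _)
    (Set.toFinite _), h180]
  · rw [Set.ncard_eq_three.2 ⟨a, b, c, h3'.xy, h3'.xw, h3'.yw, rfl⟩]
  · rw [Set.disjoint_left]
    rintro t (rfl | rfl | rfl) ⟨⟨h1, h2⟩, h4⟩
    exacts [h1.2.1 rfl, h2.2.1 rfl, h4.2.1 rfl]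

/-- A fixed common partner of the triangle has 128 fixed partners far from `d`. -/
theorem far_partners [Finite X] {z : X} (hB : Base D) (hF : Fixed D z) {d : X} (hd : d ∈ fix D z)
    {Y : Subgroup X} {T : Set ↥Y} {a b c : ↥Y} (h : Model D d Y T) (h3 : H72.Conn.Cl3 T a b c)
    (himg : perp D d ∩ fix D z =
      (fun t : ↥Y => d * (t : X)) '' ({a, b, c} ∪ (perp T a ∩ perp T b ∩ perp T c))) :
    ∀ x ∈ (fun t : ↥Y => d * (t : X)) '' (perp T a ∩ perp T b ∩ perp T c),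
      128 ≤ (perp D x ∩ (fix D z \ insert d (perp D d ∩ fix D z))).ncard := by
  have hd2 : d * d = 1 := by rw [← pow_two, ← hB.ord d hd.1, pow_orderOf_eq_one]
  set f := fun t : ↥Y => d * (t : X) with hf
  set K := perp T a ∩ perp T b ∩ perp T c with hK
  set W := fix D z \ insert d (perp D d ∩ fix D z) with hW
  have hfK : f '' K ⊆ perp D d ∩ fix D z := himg ▸ Set.image_mono Set.subset_union_right
  rintro _ ⟨t, ht, rfl⟩
  have hxN := hfK ⟨t, ht, rfl⟩
  obtain ⟨-, -, -, -, -, -, -, -, hx183⟩ := fixed_partners hB hF hxN.2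
  have h51 := m23_four h.group h.prim h.typ h3.hx ⟨h3.hy, h3.xy.symm, h3.cxy⟩
    ⟨h3.hw, h3.xw.symm, h3.cxw⟩ ht.1.1 ⟨h3.yw.symm, h3.cyw⟩ ⟨ht.1.2.2.1, ht.1.2.2.2⟩
    ⟨ht.2.2.1, ht.2.2.2⟩
  have hsub : perp D d ∩ perp D (f t) ∩ fix D z ⊆ f '' ({a, b, c} ∪ (K ∩ perp T t)) := by
    intro y hy
    have hy' : y ∈ perp D d ∩ fix D z := ⟨hy.1.1, hy.2⟩
    rw [himg] at hy'
    obtain ⟨s, hs, rfl⟩ := hy'
    refine ⟨s, hs.imp_right fun hsK => ⟨hsK, hsK.1.1.1, fun e => hy.1.2.2.1 (by rw [e]), ?_⟩, rfl⟩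
    exact (h.comm_iff hd2).1 hy.1.2.2.2
  have h54 : (perp D d ∩ perp D (f t) ∩ fix D z).ncard ≤ 54 := by
    refine (Set.ncard_le_ncard hsub (Set.toFinite _)).trans
      ((Set.ncard_image_le (Set.toFinite _)).trans ((Set.ncard_union_le _ _).trans ?_))
    rw [Set.ncard_eq_three.2 ⟨a, b, c, h3.xy, h3.xw, h3.yw, rfl⟩, hK, h51]
  have hcov : perp D (f t) ∩ fix D z ⊆
      insert d (perp D d ∩ perp D (f t) ∩ fix D z) ∪ (perp D (f t) ∩ W) := by
    intro y hy
    by_cases e : y = d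
    · exact Or.inl (Or.inl e)
    by_cases hyd : y ∈ perp D d
    · exact Or.inl (Or.inr ⟨⟨hyd, hy.1⟩, hy.2⟩)
    · exact Or.inr ⟨hy.1, hy.2, fun hh => hh.elim e fun h' => hyd h'.1⟩
  have h1 := (Set.ncard_le_ncard hcov (Set.toFinite _)).trans (Set.ncard_union_le _ _)
  have h2 := Set.ncard_insert_le d (perp D d ∩ perp D (f t) ∩ fix D z)
  rw [hx183] at h1
  omega

/-- More than half of the fixed members are within distance two of a fixed member. -/
theorem nearCount [Finite X] {z : X} (hB : Base D) (hF : Fixed D z) {d : X} (hd : d ∈ fix D z) :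
    252 < {x | x ∈ fix D z ∧
      (x = d ∨ x ∈ H99.perp D d ∨ ∃ a ∈ H99.perp D d, x ∈ H99.perp D a)}.ncard := by
  obtain ⟨Y, T, a, b, c, h, h3, himg, h183⟩ := fixed_partners hB hF hd
  obtain ⟨t, ht⟩ := Set.nonempty_of_ncard_ne_zero (s := perp T a ∩ perp T b ∩ perp T c)
    (by rw [(m23_three h.group h.prim h.typ h3).2]; norm_num)
  have h128 := far_partners hB hF hd h h3 himg (d * (t : X)) ⟨t, ht, rfl⟩
  have hx : d * (t : X) ∈ perp D d ∩ fix D z := himg ▸ ⟨t, Or.inr ht, rfl⟩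
  set W := fix D z \ insert d (perp D d ∩ fix D z) with hW
  refine lt_of_lt_of_le (b := (insert d (perp D d ∩ fix D z) ∪
    (perp D (d * (t : X)) ∩ W)).ncard) ?_ (Set.ncard_le_ncard ?_ (Set.toFinite _))
  · rw [Set.ncard_union_eq (Set.disjoint_left.2 fun y hy hy' => hy'.2.2 hy) (Set.toFinite _)
      (Set.toFinite _), Set.ncard_insert_of_notMem (fun e => e.1.2.1 rfl) (Set.toFinite _), h183]
    omega
  · rintro y ((rfl | hy) | hy)
    · exact ⟨hd, Or.inl rfl⟩
    · exact ⟨hy.2, Or.inr (Or.inl hy.1)⟩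
    · exact ⟨hy.2.1, Or.inr (Or.inr ⟨_, hx.1, hy.1⟩)⟩

/-- Some fixed pair at distance two has at least 72 fixed common partners. -/
theorem countStmt : CountStmt.{u} := by
  intro X _ _ D z hB hF
  classical
  obtain ⟨d, hd⟩ := hF.nonempty
  obtain ⟨Y, T, a, b, c, h, h3, himg, h183⟩ := fixed_partners hB hF hd
  refine ⟨d, hd, ?_⟩
  set f := fun t : ↥Y => d * (t : X) with hf
  set K := perp T a ∩ perp T b ∩ perp T c with hK
  have hfK : f '' K ⊆ perp D d ∩ fix D z := himg ▸ Set.image_mono Set.subset_union_right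
  set W := fix D z \ insert d (perp D d ∩ fix D z) with hW
  have hWn : ∀ y ∈ W, ¬ Commute d y := fun y hy hc =>
    hy.2 (by
      by_cases e : y = d
      · exact Or.inl e
      · exact Or.inr ⟨⟨hy.1.1, e, hc⟩, hy.1⟩)
  have hWc : W.ncard ≤ 320 := by
    have hsub : insert d (perp D d ∩ fix D z) ⊆ fix D z :=
      Set.insert_subset hd Set.inter_subset_right
    rw [hW, Set.ncard_sdiff hsub (Set.toFinite _),
      Set.ncard_insert_of_notMem (fun e => e.1.2.1 rfl) (Set.toFinite _), h183]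
    have := hF.card
    omega
  have hA : ∀ x ∈ f '' K, 128 ≤ (perp D x ∩ W).ncard := far_partners hB hF hd h h3 himg
  by_contra hno
  push Not at hno
  let A : Finset X := (f '' K).toFinite.toFinset
  let W' : Finset X := W.toFinite.toFinset
  have hAc : A.card = 180 := by
    rw [← Set.ncard_eq_toFinset_card, Set.ncard_image_of_injective _ Model.mk_inj,
      (m23_three h.group h.prim h.typ h3).2]
  have hW'c : W'.card ≤ 320 := by rw [← Set.ncard_eq_toFinset_card]; exact hWc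
  let r : X → X → Prop := fun x y => y ∈ perp D x
  have h1 : ∀ x ∈ A, 128 ≤ (W'.bipartiteAbove r x).card := by
    intro x hx
    refine (hA x ((Set.Finite.mem_toFinset _).1 hx)).trans (le_of_eq ?_)
    rw [← Set.ncard_coe_finset]
    congr 1
    ext y
    simp [Finset.bipartiteAbove, W', r, and_comm]
  have h2 : ∀ y ∈ W', (A.bipartiteBelow r y).card ≤ 71 := by
    intro y hy
    have hyW := (Set.Finite.mem_toFinset _).1 hy
    have := hno y hyW.1 (hWn y hyW)
    refine le_trans ?_ (Nat.le_of_lt_succ this)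
    rw [← Set.ncard_coe_finset]
    refine Set.ncard_le_ncard (fun x hx => ?_) (Set.toFinite _)
    simp only [Finset.bipartiteBelow, Finset.coe_filter, Set.mem_ofPred_eq, A,
      Set.Finite.mem_toFinset, r] at hx
    have hxd := hfK hx.1
    exact ⟨⟨hxd.1, perp_mem_symm hxd.1.1 hx.2⟩, hxd.2⟩
  have := Finset.card_mul_le_card_mul r h1 h2
  omega

/-- All pairs at distance two are conjugate, so have the same number of common partners. -/
theorem pairStmt : PairStmt.{u} := by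
  intro X _ _ D hB d hd b hb x hx y hy hdb hne hxy hne'
  obtain ⟨w, hw⟩ := hne
  obtain ⟨v, hv⟩ := hne'
  obtain ⟨g₁, hg₁⟩ := isConj_iff.1 (hB.cls w hw.1.1 v hv.1.1)
  obtain ⟨Y, T, h⟩ := (hB.chart v hv.1.1).get
  have hv2 : v * v = 1 := by rw [← pow_two, ← hB.ord v hv.1.1, pow_orderOf_eq_one]
  have hd' : g₁ * d * g₁⁻¹ ∈ perp D v := hg₁ ▸ perp_conj hB.conj g₁ (perp_mem_symm hd hw.1)
  have hb' : g₁ * b * g₁⁻¹ ∈ perp D v := hg₁ ▸ perp_conj hB.conj g₁ (perp_mem_symm hb hw.2)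
  obtain ⟨t₁, ht₁, e₁⟩ := h.exists_eq hd'
  obtain ⟨t₂, ht₂, e₂⟩ := h.exists_eq hb'
  obtain ⟨t₃, ht₃, e₃⟩ := h.exists_eq (perp_mem_symm hx hv.1)
  obtain ⟨t₄, ht₄, e₄⟩ := h.exists_eq (perp_mem_symm hy hv.2)
  have h12 : ¬ Commute t₁ t₂ := fun hc => hdb ((conj_commute_iff g₁ d b).1
    (e₁ ▸ e₂ ▸ h.mul_mem_comm hc))
  have h34 : ¬ Commute t₃ t₄ := fun hc => hxy (e₃ ▸ e₄ ▸ h.mul_mem_comm hc)
  obtain ⟨g₂, hg₂⟩ := class_isConj h.cls ht₁ ht₃
  have ht₂' : g₂ * t₂ * g₂⁻¹ ∈ T := class_conj_mem h.cls g₂ ht₂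
  have h32 : ¬ Commute t₃ (g₂ * t₂ * g₂⁻¹) := fun hc => h12
    ((conj_commute_iff g₂ t₁ t₂).1 (hg₂.symm ▸ hc))
  have hwid : ∃ p ∈ T, ∃ q ∈ T, p ≠ q ∧ Commute p q := by
    obtain ⟨q, hq⟩ := Set.nonempty_of_ncard_ne_zero (s := perp T t₁)
      (by rw [h.good.srg.deg t₁ ht₁]; norm_num)
    exact ⟨t₁, ht₁, q, hq.1, hq.2.1.symm, hq.2.2⟩
  obtain ⟨k, hk, hk'⟩ := trans_on_noncommuting h.cls h.prim hwid ht₃ ht₂' h32 ht₄ h34
  have hk3 := perpIns_commute hk
  have move : ∀ (g s : ↥Y), (g : X) * (v * (s : X)) * (g : X)⁻¹ = v * ((g * s * g⁻¹ : ↥Y) : X) := by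
    intro g s
    rw [Subgroup.coe_mul, Subgroup.coe_mul, Subgroup.coe_inv, ← mul_assoc (g : X) v,
      ← (h.comm g).eq]
    group
  set G₁ : X := (k : X) * (g₂ : X) * g₁ with hG₁
  have key : ∀ (s : X) (t : ↥Y), g₁ * s * g₁⁻¹ = v * (t : X) →
      G₁ * s * G₁⁻¹ = v * ((k * (g₂ * t * g₂⁻¹) * k⁻¹ : ↥Y) : X) := by
    intro s t e
    rw [← move, ← move, ← e, hG₁]
    group
  have hGd : G₁ * d * G₁⁻¹ = x := by
    rw [key d t₁ e₁.symm, hg₂, hk3.eq, mul_inv_cancel_right, e₃]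
  have hGb : G₁ * b * G₁⁻¹ = y := by rw [key b t₂ e₂.symm, hk', e₄]
  rw [← hGd, ← hGb, ← conj_image_perp hB.conj, ← conj_image_perp hB.conj]
  have hinj : Function.Injective fun y : X => G₁ * y * G₁⁻¹ := fun _ _ e =>
    mul_left_cancel (mul_right_cancel e)
  rw [← Set.image_inter hinj, Set.ncard_image_of_injective _ hinj]

end H71.Big24
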