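/-
The members commuting with the central involution.
-/
import Cfsg.Agent.H71.Big24.Local

set_option autoImplicit false
set_option linter.unusedSectionVars false

namespace H71.Big24

open Cfsg H99 H65.Fischer

universe u

variable {X : Type u} [Group X] [Finite X] {D : Set X}

/-- In a chart, an inner involution commuting with `d` that is no product of a pair is a product
of three transpositions. -/
theorem Model.triple_of_inner {d : X} {Y : Subgroup X} {T : Set ↥Y} (h : Model D d Y T)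
    {G₀ : Subgroup X} (hidx : G₀.index = 2) (hout : ∀ x ∈ D, x ∉ G₀) (hd : d ∈ D)
    (hd2 : d * d = 1) {z : X} (hz : z ∈ G₀) (hz2 : orderOf z = 2) (hc : Commute d z)
    (hno : ∀ x ∈ D, ∀ y ∈ H99.perp D x, z ≠ x * y) :
    ∃ (zY : ↥Y) (a b c : ↥Y), (zY : X) = z ∧ H72.Conn.Cl3 T a b c ∧ zY = a * b * c := by
  have hle := h.le_of_outer hidx hout hd
  have hzY : z ∈ Y := by
    rcases h.cover z hc with h1 | h1
    · exact h1
    · exfalso
      have h2 : d * z ∈ G₀ := hle h1
      rw [Subgroup.mul_mem_iff_of_index_two hidx] at h2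
      exact hout d hd (h2.2 hz)
  have hord : orderOf (⟨z, hzY⟩ : ↥Y) = 2 := by rw [← hz2, ← Subgroup.orderOf_coe]
  obtain ⟨m, hm1, hm3, l, hn, hlen, hmem, hcm, hprod⟩ := h.classes.1 _ hord
  rcases (by omega : m = 1 ∨ m = 2 ∨ m = 3) with rfl | rfl | rfl
  · exfalso
    obtain ⟨t, rfl⟩ := List.length_eq_one_iff.1 hlen
    have ht : t ∈ T := hmem t List.mem_cons_self
    refine hno d hd _ (h.mem ht) ?_
    rw [← mul_assoc, hd2, one_mul]
    have := congrArg Subtype.val hprod
    simpa using this.symm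
  · exfalso
    obtain ⟨s, t, rfl⟩ := List.length_eq_two.1 hlen
    have hs : s ∈ T := hmem s (by simp)
    have ht : t ∈ T := hmem t (by simp)
    have hst : s ≠ t := by simpa using hn
    have hc2 := h.mul_mem_comm (hcm s (by simp) t (by simp))
    refine hno _ (h.mem hs).1 _ ⟨(h.mem ht).1, fun e => hst ?_, hc2⟩ ?_
    · exact (Subtype.ext (mul_left_cancel e) : t = s).symm
    · have h1 : (s : X) * t = z := by simpa using congrArg Subtype.val hprod
      rw [← h1]
      calc (s : X) * t = d * d * ((s : X) * t) := by rw [hd2, one_mul]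
        _ = d * (d * (s : X)) * t := by group
        _ = d * ((s : X) * d) * t := by rw [(h.comm s).eq]
        _ = d * (s : X) * (d * t) := by group
  · obtain ⟨a, b, c, rfl⟩ := List.length_eq_three.1 hlen
    refine ⟨⟨z, hzY⟩, a, b, c, rfl, ⟨hmem a (by simp), hmem b (by simp), hmem c (by simp), ?_, ?_,
      ?_, hcm a (by simp) b (by simp), hcm a (by simp) c (by simp), hcm b (by simp) c (by simp)⟩,
      ?_⟩
    · rintro rfl; simp at hn
    · rintro rfl; simp at hn
    · rintro rfl; simp at hn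
    · rw [← hprod]; simp [mul_assoc]

theorem fixedStmt : FixedStmt.{u} := by
  intro X _ _ D G₀ z hidx hB hR
  classical
  haveI := Subgroup.normal_of_index_eq_two hidx
  have hsq : ∀ x ∈ D, x * x = 1 := fun x hx => by
    rw [← pow_two, ← hB.ord x hx, pow_orderOf_eq_one]
  have hno : ∀ x ∈ D, ∀ y ∈ H99.perp D x, z ≠ x * y := fun x hx y hy e =>
    hR.notPair x hx y hy (e ▸ IsConj.refl z)
  -- transitivity
  have htrans : ∀ x ∈ fix D z, ∀ y ∈ fix D z, ∃ g, Commute g z ∧ g * x * g⁻¹ = y := by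
    intro x hx y hy
    obtain ⟨g, hg⟩ := isConj_iff.1 (hB.cls x hx.1 y hy.1)
    obtain ⟨Y, T, h⟩ := (hB.chart y hy.1).get
    set z' := g * z * g⁻¹ with hz'
    have hc' : Commute y z' := by rw [← hg]; exact hx.2.map (MulAut.conj g).toMonoidHom
    have hord' : orderOf z' = 2 := by
      rw [hz', ← hR.ord]
      exact MulEquiv.orderOf_eq (MulAut.conj g) z
    obtain ⟨zY, a, b, c, ez, k, e⟩ := h.triple_of_inner hidx hR.outer hy.1 (hsq y hy.1) hR.inner
      hR.ord hy.2 hno
    obtain ⟨wY, a', b', c', ew, k', e'⟩ := h.triple_of_inner hidx hR.outer hy.1 (hsq y hy.1)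
      (Subgroup.Normal.conj_mem inferInstance z hR.inner g) hord' hc'
      (fun p hp q hq eq => hR.notPair p hp q hq (isConj_iff.2 ⟨g, eq⟩))
    have hprod : ∀ (u p q r : ↥Y), H72.Conn.Cl3 T p q r → u = p * q * r →
        ∃ l : List ↥Y, l.Nodup ∧ l.length = 3 ∧ (∀ v ∈ l, v ∈ T) ∧
          (∀ v ∈ l, ∀ w ∈ l, Commute v w) ∧ l.prod = u := by
      intro u p q r kk ee
      refine ⟨[p, q, r], by simp [kk.xy, kk.xw, kk.yw], rfl, ?_, ?_, by simp [ee, mul_assoc]⟩
      · simp only [List.mem_cons, List.not_mem_nil, or_false]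
        rintro v (rfl | rfl | rfl)
        exacts [kk.hx, kk.hy, kk.hw]
      · simp only [List.mem_cons, List.not_mem_nil, or_false]
        rintro v (rfl | rfl | rfl) w (rfl | rfl | rfl)
        exacts [Commute.refl _, kk.cxy, kk.cxw, kk.cxy.symm, Commute.refl _, kk.cyw, kk.cxw.symm,
          kk.cyw.symm, Commute.refl _]
    obtain ⟨q, hq⟩ := isConj_iff.1 ((h.classes.2.1 3 (by norm_num) le_rfl).2 wY zY
      (hprod _ _ _ _ k' e') (hprod _ _ _ _ k e))
    refine ⟨(q : X) * g, ?_, ?_⟩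
    · have h1 : (q : X) * z' * (q : X)⁻¹ = z := by
        rw [hz', ← ew, ← ez]; exact congrArg Subtype.val hq
      refine mul_inv_eq_iff_eq_mul.1 ?_
      calc (q : X) * g * z * ((q : X) * g)⁻¹ = (q : X) * z' * (q : X)⁻¹ := by rw [hz']; group
        _ = z := h1
    · calc (q : X) * g * x * ((q : X) * g)⁻¹ = (q : X) * (g * x * g⁻¹) * (q : X)⁻¹ := by group
        _ = y := by rw [hg]; exact mul_inv_eq_of_eq_mul (h.comm q).symm.eq
  have tetrad : ∀ d ∈ fix D z, ∃ a b c, H72.Conn.Cl3 (H99.perp D d) a b c ∧ z = d * (a * b * c) := by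
    intro d hd
    obtain ⟨Y, T, h⟩ := (hB.chart d hd.1).get
    obtain ⟨zY, a, b, c, ez, k, e⟩ :=
      h.triple_of_inner hidx hR.outer hd.1 (hsq d hd.1) hR.inner hR.ord hd.2 hno
    refine ⟨_, _, _, ⟨h.mem k.hx, h.mem k.hy, h.mem k.hw,
      fun e' => k.xy (Subtype.ext (mul_left_cancel e')),
      fun e' => k.xw (Subtype.ext (mul_left_cancel e')),
      fun e' => k.yw (Subtype.ext (mul_left_cancel e')),
      h.mul_mem_comm k.cxy, h.mul_mem_comm k.cxw, h.mul_mem_comm k.cyw⟩, ?_⟩
    rw [← ez, e]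
    have hd2 := hsq d hd.1
    calc ((a * b * c : ↥Y) : X) = (d * d) * ((a : X) * (d * d) * (b : X) * (c : X)) := by
          rw [hd2]; simp
      _ = d * (d * ((a : X) * d) * (d * (b : X)) * (c : X)) := by group
      _ = d * (d * (d * (a : X)) * (d * (b : X)) * (c : X)) := by rw [(h.comm a).eq]
      _ = d * (d * d * (a : X) * d * (b : X) * (c : X)) := by group
      _ = d * ((d * d) * (a : X) * d * (b : X) * (c : X)) := by group
      _ = d * ((a : X) * d * (b : X) * (c : X)) := by rw [hd2, one_mul]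
      _ = d * ((a : X) * (d * d * d) * (b : X) * (c : X)) := by rw [hd2, one_mul]
      _ = d * (((a : X) * d) * (d * ((d * (b : X)) * (c : X)))) := by group
      _ = d * ((d * (a : X)) * (d * (((b : X) * d) * (c : X)))) := by rw [(h.comm a).eq, (h.comm b).eq]
      _ = d * (d * (a : X) * (d * (b : X)) * (d * (c : X))) := by group
  refine ⟨tetrad, htrans, ?_, ?_⟩
  · obtain ⟨d, hd, hc⟩ := hR.fixed
    exact ⟨d, hd, hc⟩
  -- the number of fixed members
  obtain ⟨d, hdD, hdz⟩ := hR.fixed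
  obtain ⟨Y, T, h⟩ := (hB.chart d hdD).get
  obtain ⟨zY, a, b, c, ez, k, e⟩ :=
    h.triple_of_inner hidx hR.outer hdD (hsq d hdD) hR.inner hR.ord hdz hno
  set C := Subgroup.centralizer ({zY} : Set ↥Y) with hC
  have hbig : 318504960 ≤ Nat.card C := by rw [hC, e]; exact h.card_triple k
  have hd1 : orderOf d = 2 := hB.ord d hdD
  choose gx hgx using fun x : fix D z => htrans d ⟨hdD, hdz⟩ x.1 x.2
  have hCz : ∀ y : C, Commute ((y : ↥Y) : X) z := fun y => by
    rw [← ez]
    exact (show Commute (y : ↥Y) zY from Subgroup.mem_centralizer_singleton_iff.1 y.2).map Y.subtype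
  let F : (fix D z) × Fin 2 × C → ↥(Subgroup.centralizer ({z} : Set X)) := fun p =>
    ⟨gx p.1 * (d ^ (p.2.1 : ℕ) * ((p.2.2 : ↥Y) : X)), Subgroup.mem_centralizer_singleton_iff.2
      ((hgx p.1).1.mul_left ((hdz.pow_left _).mul_left (hCz p.2.2))).eq⟩
  have hF : Function.Injective F := by
    rintro ⟨x, i, y⟩ ⟨x', i', y'⟩ he
    have he' : gx x * (d ^ (i : ℕ) * ((y : ↥Y) : X)) = gx x' * (d ^ (i' : ℕ) * ((y' : ↥Y) : X)) :=
      congrArg Subtype.val he
    have key : ∀ (i : Fin 2) (y : C), (d ^ (i : ℕ) * ((y : ↥Y) : X)) * d *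
        (d ^ (i : ℕ) * ((y : ↥Y) : X))⁻¹ = d := fun i y =>
      mul_inv_eq_of_eq_mul (((Commute.refl d).pow_right _).mul_right (h.comm y)).symm.eq
    have hxx : x = x' := by
      refine Subtype.ext ?_
      rw [← (hgx x).2, ← (hgx x').2]
      conv_lhs => rw [← key i y]
      conv_rhs => rw [← key i' y']
      calc gx x * (d ^ (i : ℕ) * ((y : ↥Y) : X) * d * (d ^ (i : ℕ) * ((y : ↥Y) : X))⁻¹) * (gx x)⁻¹
          = gx x * (d ^ (i : ℕ) * ((y : ↥Y) : X)) * d *
            (gx x * (d ^ (i : ℕ) * ((y : ↥Y) : X)))⁻¹ := by group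
        _ = gx x' * (d ^ (i' : ℕ) * ((y' : ↥Y) : X)) * d *
            (gx x' * (d ^ (i' : ℕ) * ((y' : ↥Y) : X)))⁻¹ := by rw [he']
        _ = _ := by group
    subst hxx
    have he2 := mul_left_cancel he'
    have hii : i = i' := by
      fin_cases i <;> fin_cases i' <;> try rfl
      · exfalso
        have h1 : ((y : ↥Y) : X) = d * ((y' : ↥Y) : X) := by simpa using he2
        exact h.notMem ((Subgroup.mul_mem_cancel_right Y (y' : ↥Y).2).1 (h1 ▸ (y : ↥Y).2))
      · exfalso
        have h1 : d * ((y : ↥Y) : X) = ((y' : ↥Y) : X) := by simpa using he2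
        exact h.notMem ((Subgroup.mul_mem_cancel_right Y (y : ↥Y).2).1 (h1.symm ▸ (y' : ↥Y).2))
    subst hii
    rw [Subtype.ext (Subtype.ext (mul_left_cancel he2)) ]
  have hle := Nat.card_le_card_of_injective F hF
  rw [Nat.card_prod, Nat.card_prod, Nat.card_fin, Nat.card_coe_set_eq] at hle
  have := hle.trans hR.cardCent
  nlinarith

end H71.Big24
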