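/-
The component is the whole class and generates the group.
-/
import Cfsg.Agent.H71.Big24.Fixed
import Cfsg.Agent.H72.Conn.Invol
import Cfsg.Agent.H98.Fischer.TypeMap

set_option autoImplicit false
set_option linter.unusedSectionVars false

namespace H71.Big24

open Cfsg H99 H65.Fischer

universe u

/-- More than half of the fixed members lie within distance two of each of them. -/
def NearStmt : Prop :=
  ∀ {X : Type u} [Group X] [Finite X] {D : Set X} {z : X}, Base D → Fixed D z → ∀ d ∈ fix D z,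
    252 < {x | x ∈ fix D z ∧ (x = d ∨ x ∈ H99.perp D d ∨
      ∃ a ∈ H99.perp D d, x ∈ H99.perp D a)}.ncard

variable {X : Type u} [Group X] [Finite X] {D : Set X}

/-- A component containing more than half of the fixed members of the central involution generates
the whole group. -/
theorem Comp.eq_top {G₀ : Subgroup X} {z : X} (hidx : G₀.index = 2) (hB : Base D) (hR : Rel D G₀ z)
    (hz : Fixed D z) {M : Subgroup X} {C : Set X} (hC : Comp D M C) {d : X} (hd : d ∈ fix D z)
    (hdC : d ∈ C) (hnear : 252 < {x | x ∈ fix D z ∧ (x = d ∨ x ∈ H99.perp D d ∨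
      ∃ a ∈ H99.perp D d, x ∈ H99.perp D a)}.ncard) : M = ⊤ := by
  classical
  haveI := Subgroup.normal_of_index_eq_two hidx
  obtain ⟨a, b, c, k, hzd⟩ := hz.tetrad d hd
  have hdM : d ∈ M := hC.le hdC
  have mC : ∀ x ∈ H99.perp D d, x ∈ C := fun x hx => hC.perp d hdC hx
  have haM : a ∈ M := hC.le (mC a k.hx)
  have hbM : b ∈ M := hC.le (mC b k.hy)
  have hcM : c ∈ M := hC.le (mC c k.hw)
  have hsq : ∀ x ∈ D, x * x = 1 := fun x hx => by
    rw [← pow_two, ← hB.ord x hx, pow_orderOf_eq_one]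
  have hzM : z ∈ M := hzd ▸ mul_mem hdM (mul_mem (mul_mem haM hbM) hcM)
  -- the two centralisers
  set r := d * a with hr
  have hrM : r ∈ M := mul_mem hdM haM
  have cr : ∀ g, Commute g r → g ∈ M := by
    intro g hg
    have e : g * d * g⁻¹ * (g * a * g⁻¹) = d * a := by
      rw [← hr]
      calc g * d * g⁻¹ * (g * a * g⁻¹) = g * r * g⁻¹ := by rw [hr]; group
        _ = r := mul_inv_eq_of_eq_mul hg.eq
    rcases hB.pairUniq _ (hB.conj g d hd.1) _ (perp_conj hB.conj g k.hx) d hd.1 a k.hx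
      e with h1 | h1
    · exact hC.move g d hdC (by rw [h1]; exact hdC)
    · exact hC.move g d hdC (by rw [h1]; exact mC a k.hx)
  set W := {x | x ∈ fix D z ∧ x ∈ C} with hW
  have hWbig : 252 < W.ncard := by
    refine lt_of_lt_of_le hnear (Set.ncard_le_ncard ?_ (Set.toFinite _))
    rintro x ⟨hx, rfl | hx' | ⟨y, hy, hx'⟩⟩
    exacts [⟨hx, hdC⟩, ⟨hx, mC x hx'⟩, ⟨hx, hC.perp y (mC y hy) hx'⟩]
  have cz : ∀ g, Commute g z → g ∈ M := by
    intro g hg
    set W' := (fun x => g * x * g⁻¹) '' W with hW'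
    have hinj : Function.Injective fun x => g * x * g⁻¹ := fun x y e =>
      mul_left_cancel (mul_right_cancel e)
    have hc' : W'.ncard = W.ncard := Set.ncard_image_of_injective _ hinj
    obtain ⟨y, ⟨x, hx, rfl⟩, hy⟩ : ∃ y, y ∈ W' ∧ y ∈ W := by
      by_contra hn
      push Not at hn
      have hsub : W' ∪ W ⊆ fix D z := by
        rintro y (⟨x, hx, rfl⟩ | hy)
        · refine ⟨hB.conj g x hx.1.1, ?_⟩
          have := hx.1.2.map (MulAut.conj g).toMonoidHom
          simp only [MulEquiv.coe_toMonoidHom, MulAut.conj_apply] at this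
          rwa [show g * z * g⁻¹ = z from mul_inv_eq_of_eq_mul hg.eq] at this
        · exact hy.1
      have := Set.ncard_le_ncard hsub (Set.toFinite _)
      rw [Set.ncard_union_eq (Set.disjoint_left.2 hn) (Set.toFinite _) (Set.toFinite _)] at this
      have := hz.card
      omega
    exact hC.move g x hx.2 hy.2
  -- the involutions of `M` inside the subgroup of index two
  have hgr : IsThreeTranspositionGroup ((↑) ⁻¹' C : Set ↥M) := class_toGroup hC.cls
  have hcl := H99.Fi.classes_m24 hgr hC.prim hC.typ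
  have hout : ∀ x : ↥M, x ∈ ((↑) ⁻¹' C : Set ↥M) → (x : X) ∉ G₀ := fun x hx => hR.outer _ (hC.sub hx)
  have hdr : d ≠ a := k.hx.2.1.symm
  have hrl : ∃ l : List ↥M, l.Nodup ∧ l.length = 2 ∧ (∀ v ∈ l, v ∈ ((↑) ⁻¹' C : Set ↥M)) ∧
      (∀ v ∈ l, ∀ w ∈ l, Commute v w) ∧ l.prod = (⟨r, hrM⟩ : ↥M) := by
    refine ⟨[⟨d, hdM⟩, ⟨a, haM⟩], by simp [hdr], rfl, ?_, ?_, by simp [hr]⟩
    · simp only [List.mem_cons, List.not_mem_nil, or_false]
      rintro v (rfl | rfl)
      exacts [hdC, mC a k.hx]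
    · simp only [List.mem_cons, List.not_mem_nil, or_false]
      rintro v (rfl | rfl) w (rfl | rfl)
      exacts [Commute.refl _, Subtype.ext k.hx.2.2.eq, Subtype.ext k.hx.2.2.symm.eq, Commute.refl _]
  have hzl : ∃ l : List ↥M, l.Nodup ∧ l.length = 4 ∧ (∀ v ∈ l, v ∈ ((↑) ⁻¹' C : Set ↥M)) ∧
      (∀ v ∈ l, ∀ w ∈ l, Commute v w) ∧ l.prod = (⟨z, hzM⟩ : ↥M) := by
    refine ⟨[⟨d, hdM⟩, ⟨a, haM⟩, ⟨b, hbM⟩, ⟨c, hcM⟩], ?_, rfl, ?_, ?_, ?_⟩
    · simp [k.xy, k.xw, k.yw, hdr, k.hy.2.1.symm, k.hw.2.1.symm]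
    · simp only [List.mem_cons, List.not_mem_nil, or_false]
      rintro v (rfl | rfl | rfl | rfl)
      exacts [hdC, mC a k.hx, mC b k.hy, mC c k.hw]
    · simp only [List.mem_cons, List.not_mem_nil, or_false]
      rintro v (rfl | rfl | rfl | rfl) w (rfl | rfl | rfl | rfl)
      exacts [Commute.refl _, Subtype.ext k.hx.2.2.eq, Subtype.ext k.hy.2.2.eq,
        Subtype.ext k.hw.2.2.eq, Subtype.ext k.hx.2.2.symm.eq, Commute.refl _,
        Subtype.ext k.cxy.eq, Subtype.ext k.cxw.eq, Subtype.ext k.hy.2.2.symm.eq,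
        Subtype.ext k.cxy.symm.eq, Commute.refl _, Subtype.ext k.cyw.eq,
        Subtype.ext k.hw.2.2.symm.eq, Subtype.ext k.cxw.symm.eq, Subtype.ext k.cyw.symm.eq,
        Commute.refl _]
    · simp [hzd, mul_assoc]
  -- an inner involution of `M` is conjugate in `M` to `r` or to `z`
  have inner : ∀ i ∈ M, i ∈ G₀ → orderOf i = 2 →
      (∃ h ∈ M, h * r * h⁻¹ = i) ∨ ∃ h ∈ M, h * z * h⁻¹ = i := by
    intro i hiM hiG hi2
    obtain ⟨m, hm1, hm4, l, hn, hlen, hmem, hcm, hprod⟩ :=
      hcl.1 ⟨i, hiM⟩ (by rw [← hi2, ← Subgroup.orderOf_coe])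
    have odd_out : ∀ l : List ↥M, (∀ v ∈ l, v ∈ ((↑) ⁻¹' C : Set ↥M)) →
        (((l.prod : ↥M) : X) ∈ G₀ ↔ Even l.length) := by
      intro l
      induction l with
      | nil => intro _; simp
      | cons v l ih =>
        intro hmem
        have h1 := hout v (hmem v List.mem_cons_self)
        have h2 := ih fun w hw => hmem w (List.mem_cons_of_mem v hw)
        rw [List.prod_cons, Subgroup.coe_mul, Subgroup.mul_mem_iff_of_index_two hidx, h2,
          List.length_cons, Nat.even_add_one]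
        tauto
    have heven : Even m := by
      rw [← hlen, ← odd_out l hmem, hprod]
      exact hiG
    obtain ⟨j, hj⟩ := heven
    rcases (by omega : m = 2 ∨ m = 4) with rfl | rfl
    · obtain ⟨h, hh⟩ := isConj_iff.1 ((hcl.2.1 2 (by norm_num) (by norm_num)).2 _ _ hrl
        ⟨l, hn, hlen, hmem, hcm, hprod⟩)
      exact Or.inl ⟨h, h.2, congrArg Subtype.val hh⟩
    · obtain ⟨h, hh⟩ := isConj_iff.1 ((hcl.2.1 4 (by norm_num) le_rfl).2 _ _ hzl
        ⟨l, hn, hlen, hmem, hcm, hprod⟩)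
      exact Or.inr ⟨h, h.2, congrArg Subtype.val hh⟩
  have ci : ∀ i ∈ M, i ∈ G₀ → orderOf i = 2 → ∀ g, Commute g i → g ∈ M := by
    intro i hiM hiG hi2 g hg
    rcases inner i hiM hiG hi2 with ⟨h, hh, rfl⟩ | ⟨h, hh, rfl⟩
    all_goals
      have key : h⁻¹ * g * h ∈ M := by
        first
          | (refine cr _ ?_; have := hg.map (MulAut.conj h⁻¹).toMonoidHom; simpa [mul_assoc] using this)
          | (refine cz _ ?_; have := hg.map (MulAut.conj h⁻¹).toMonoidHom; simpa [mul_assoc] using this)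
      have h2 := mul_mem (mul_mem hh key) (inv_mem hh)
      rwa [show h * (h⁻¹ * g * h) * h⁻¹ = g by group] at h2
  have hrG : r ∈ G₀ := by
    rw [hr, Subgroup.mul_mem_iff_of_index_two hidx]
    exact iff_of_false (hR.outer d hd.1) (hR.outer a k.hx.1)
  have hr2 : r * r = 1 := by
    rw [hr, show d * a * (d * a) = d * (a * d) * a by group, ← k.hx.2.2.eq,
      show d * (d * a) * a = (d * d) * (a * a) by group, hsq d hd.1, hsq a k.hx.1, one_mul]
  have hz2 : z * z = 1 := by rw [← pow_two, ← hR.ord, pow_orderOf_eq_one]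
  have hG : G₀ ≤ M := by
    intro g hg
    set r' := g * r * g⁻¹ with hr'
    have hr'G : r' ∈ G₀ := Subgroup.Normal.conj_mem inferInstance r hrG g
    have hr'2 : r' * r' = 1 := by
      rw [hr', show g * r * g⁻¹ * (g * r * g⁻¹) = g * (r * r) * g⁻¹ by group, hr2]; group
    have hnc : ¬ IsConj z r' := fun h => hR.notPair d hd.1 a k.hx
      (h.trans (isConj_iff.2 ⟨g⁻¹, by rw [hr', hr]; group⟩))
    rcases Nat.even_or_odd' (orderOf (r' * z)) with ⟨s, hs | hs⟩
    · set i := (r' * z) ^ s with hi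
      have hpos := orderOf_pos (r' * z)
      have hi1 : i ≠ 1 := fun h => by
        have := Nat.le_of_dvd (by omega) (orderOf_dvd_of_pow_eq_one h)
        omega
      have hi2 : i * i = 1 := by rw [hi, ← pow_add, ← two_mul, ← hs, pow_orderOf_eq_one]
      have hii : i⁻¹ = i := inv_eq_of_mul_eq_one_right hi2
      have hord : orderOf i = 2 := orderOf_eq_prime (by rw [pow_two]; exact hi2) hi1
      obtain ⟨h1, h2⟩ := H72.Conn.half_comm hr'2 hz2 s
      rw [← hi, hii] at h1 h2
      have hciz : Commute i z := by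
        show i * z = z * i
        calc i * z = z * i * z * z := by rw [h2]
          _ = z * i := by rw [mul_assoc, hz2, mul_one]
      have hcir : Commute r' i := by
        show r' * i = i * r'
        calc r' * i = r' * i * r' * r' := by rw [mul_assoc (r' * i), hr'2, mul_one]
          _ = i * r' := by rw [h1]
      have hiM : i ∈ M := cz i hciz
      have hr'M : r' ∈ M := ci i hiM (pow_mem (mul_mem hr'G hR.inner) s) hord r' hcir
      have hr'ord : orderOf r' = 2 := orderOf_eq_prime (by rw [pow_two]; exact hr'2) fun h => by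
        have hr1 : r = 1 := by
          rw [hr'] at h
          calc r = g⁻¹ * (g * r * g⁻¹) * g := by group
            _ = 1 := by rw [h]; group
        refine hdr ?_
        calc d = d * (a * a) := by rw [hsq a k.hx.1, mul_one]
          _ = r * a := by rw [hr, mul_assoc]
          _ = a := by rw [hr1, one_mul]
      rcases inner r' hr'M hr'G hr'ord with ⟨h, hh, he⟩ | ⟨h, hh, he⟩
      · have h1 : h⁻¹ * g ∈ M := cr _ (by
          refine mul_inv_eq_iff_eq_mul.1 ?_
          calc h⁻¹ * g * r * (h⁻¹ * g)⁻¹ = h⁻¹ * r' * h := by rw [hr']; group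
            _ = h⁻¹ * (h * r * h⁻¹) * h := by rw [he]
            _ = r := by group)
        have := mul_mem hh h1
        rwa [mul_inv_cancel_left] at this
      · exact absurd (isConj_iff.2 ⟨h, he⟩) hnc
    · exfalso
      have h1 := H72.Conn.conj_half hr'2 hz2 s
      rw [← hs, pow_orderOf_eq_one, one_mul] at h1
      exact hnc ((isConj_iff.2 ⟨(r' * z) ^ s, h1⟩ : IsConj r' z).symm)
  refine (Subgroup.eq_top_iff' M).2 fun x => ?_
  by_cases hx : x ∈ G₀
  · exact hG hx
  · have h1 : x * d ∈ G₀ := by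
      rw [Subgroup.mul_mem_iff_of_index_two hidx]
      exact iff_of_false hx (hR.outer d hd.1)
    have h2 := mul_mem (hG h1) hdM
    rwa [mul_assoc, hsq d hd.1, mul_one] at h2

/-- The statement from its steps. -/
theorem typeM24 (hA : ChartStmt.{u}) (hK : CountStmt.{u}) (hP : PairStmt.{u}) (hBd : BoundStmt.{u})
    (hN : NearStmt.{u}) (hC : CompStmt.{u}) (G₀ : Subgroup X) (hidx : G₀.index = 2) {z : ↥G₀}
    {Q : Subgroup (Subgroup.centralizer ({z} : Set ↥G₀))} [Q.Normal]
    (hF : IsOfLargeFischerTypeAt z Q)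
    (hcentral : ∃ P : Sylow 2 ↥G₀, z ∈ (P : Subgroup ↥G₀) ∧ ∀ x ∈ (P : Subgroup ↥G₀), Commute x z)
    (hFX : (generalizedFittingSubgroup ↥(Subgroup.centralizer ({(z : X)} : Set X))).map
      (Subgroup.subtype _) = (Q.map (Subgroup.subtype _)).map G₀.subtype) :
    ∃ E : Set X, IsThreeTranspositionClass E ∧ IsOfTypeM24 X E := by
  obtain ⟨D, hB, hR⟩ := hA G₀ hidx hF hcentral hFX
  have hz := fixedStmt hidx hB hR
  obtain ⟨d, hd⟩ := hz.nonempty
  obtain ⟨M, C, hdC, hc⟩ := hC hB (bigMu_of hK hP hBd hB hz) d hd.1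
  have htop := hc.eq_top hidx hB hR hz hd hdC (hN hB hz d hd)
  subst htop
  exact ⟨_, class_map Subgroup.topEquiv hc.cls, H98.Fischer.typeM24_map Subgroup.topEquiv hc.typ⟩

end H71.Big24
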